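import Groth.Agent.H8Lim.IntegralApprox
import Groth.Agent.H8Lim.ImmersionStage
import Mathlib.AlgebraicGeometry.ZariskisMainTheorem
import Mathlib.CategoryTheory.Limits.Constructions.Over.Connected

/-! Zariski's main theorem: a separated quasi-finite morphism of finite type is an open immersion
followed by a finite morphism. -/

universe u

set_option autoImplicit false
set_option backward.isDefEq.respectTransparency false

open CategoryTheory CategoryTheory.Limits AlgebraicGeometry TopologicalSpace Topology

namespace Groth.Agent.LocImm12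

theorem exists_openImmersion_finite {X S : Scheme.{u}} (f : X ⟶ S) [CompactSpace S]
    [QuasiSeparatedSpace S] [LocallyQuasiFinite f] [LocallyOfFiniteType f] [QuasiCompact f]
    [IsSeparated f] :
    ∃ (T : Scheme.{u}) (j : X ⟶ T) (π : T ⟶ S),
      IsOpenImmersion j ∧ QuasiCompact j ∧ IsFinite π ∧ j ≫ π = f := by
  have : CompactSpace X := QuasiCompact.compactSpace_of_compactSpace f
  obtain ⟨I, _, hdir, hne, D, c, hc, hD, ⟨e⟩⟩ :=
    H8Lim.exists_limit_integral_finitePresentation f.fromNormalization
  have hc' := isLimitOfPreserves (Over.forget S) hc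
  have : ∀ {i j : Iᵒᵖ} (φ : i ⟶ j), IsAffineHom ((D ⋙ Over.forget S).map φ) := fun {i j} φ => by
    have := (hD i).1
    have := (hD j).1
    exact MorphismProperty.of_postcomp (W := @IsAffineHom) (W' := @IsSeparated) _ (D.obj j).hom
      inferInstance (by rw [Functor.comp_map, Over.forget_map, Over.w]; infer_instance)
  let h : X ⟶ c.pt.left := f.toNormalization ≫ e.inv.left
  have hs : h ≫ c.pt.hom = f := by
    have : e.inv.left ≫ c.pt.hom = f.fromNormalization := Over.w e.inv
    simp only [h, Category.assoc]
    rw [this, Scheme.Hom.toNormalization_fromNormalization]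
  have : IsIso e.inv.left := inferInstanceAs (IsIso ((Over.forget S).map e.inv))
  have : IsImmersion h := inferInstance
  have : LocallyOfFiniteType (h ≫ c.pt.hom) := hs.symm ▸ inferInstance
  obtain ⟨i, hi⟩ := H8Lim.exists_isImmersion_comp_π hc'
    { app := fun i => (D.obj i).hom
      naturality := fun i j φ => by simp } c.pt.hom (fun i => Over.w (c.π.app i)) h
  let g : X ⟶ (D.obj i).left := h ≫ (c.π.app i).left
  have : IsImmersion g := hi
  have := (hD i).1
  have hgf : g ≫ (D.obj i).hom = f := by rw [Category.assoc, Over.w]; exact hs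
  have : QuasiCompact (g ≫ (D.obj i).hom) := hgf.symm ▸ inferInstance
  have : QuasiCompact g := QuasiCompact.of_comp g (D.obj i).hom
  have : QuasiCompact (g.toImage ≫ g.imageι) := by rw [Scheme.Hom.toImage_imageι]; infer_instance
  exact ⟨g.image, g.toImage, g.imageι ≫ (D.obj i).hom, inferInstance,
    QuasiCompact.of_comp g.toImage g.imageι, inferInstance,
    by rw [Scheme.Hom.toImage_imageι_assoc, hgf]⟩

end Groth.Agent.LocImm12
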