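import Groth.Agent.LocImm12.Glue
import Groth.Agent.H8Lim.Approximation

/-! Gluing two schemes along an open with closed graph. -/

universe u

set_option autoImplicit false
set_option backward.isDefEq.respectTransparency false

open CategoryTheory CategoryTheory.Limits AlgebraicGeometry TopologicalSpace Topology

namespace Groth.Agent.LocImm12

variable {S : Scheme.{u}}

theorem exists_specializes_of_mem_closure_image_inter {X Y : Scheme.{u}} [NoetherianSpace X]
    (f : X ⟶ Y) {C G : Set X} (hC : IsClosed C) (hG : StableUnderGeneralization G) {y : Y}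
    (hy : y ∈ closure (f '' (C ∩ G))) : ∃ c ∈ C ∩ G, f c ⤳ y := by
  obtain ⟨T, hT, hcl, hirr, rfl⟩ := NoetherianSpace.exists_finite_set_isClosed_irreducible hC
  have hcl' : IsClosed (⋃₀ {Z ∈ T | (Z ∩ G).Nonempty}) := by
    rw [Set.sUnion_eq_biUnion]
    exact (hT.subset (Set.sep_subset _ _)).isClosed_biUnion fun Z hZ => hcl Z hZ.1
  have hy' : y ∈ closure (f '' ⋃₀ {Z ∈ T | (Z ∩ G).Nonempty}) := by
    refine closure_mono (Set.image_mono ?_) hy
    rintro z ⟨⟨Z, hZ, hzZ⟩, hzG⟩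
    exact ⟨Z, ⟨hZ, z, hzZ, hzG⟩, hzZ⟩
  obtain ⟨c, ⟨Z, ⟨hZ, z, hzZ, hzG⟩, hcZ⟩, hc⟩ := exists_specializes_of_mem_closure_image hcl' hy'
  have hgen := (hirr Z hZ).isGenericPoint_genericPoint_closure
  rw [(hcl Z hZ).closure_eq] at hgen
  exact ⟨_, ⟨⟨Z, hZ, hgen.mem⟩, hG (hgen.specializes hzZ) hzG⟩,
    ((hgen.specializes hcZ).map f.continuous).trans hc⟩

theorem isClosed_preimage_range_diagonal {C D E Z : Scheme.{u}} (p : Z ⟶ S) (pc : C ⟶ S) (pd : D ⟶ S)
    (c : C ⟶ Z) (d : D ⟶ Z) [IsOpenImmersion c] [IsOpenImmersion d] (hc : c ≫ p = pc) (hd : d ≫ p = pd)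
    (m : E ⟶ C) (n : E ⟶ D) (hm : m ≫ pc = n ≫ pd) (hmn : m ≫ c = n ≫ d)
    (hint : ∀ x y, c x = d y → ∃ e, m e = x ∧ n e = y)
    (hcl : IsClosed (Set.range (pullback.lift m n hm))) :
    IsClosed ((pullback.map pc pd p p c d (𝟙 S) (by simp [hc]) (by simp [hd])) ⁻¹'
      Set.range (pullback.diagonal p)) := by
  let μ := pullback.map pc pd p p c d (𝟙 S) (by simp [hc]) (by simp [hd])
  have hμ : pullback.lift m n hm ≫ μ = (m ≫ c) ≫ pullback.diagonal p := by
    apply pullback.hom_ext <;> simp [μ, hmn]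
  convert hcl using 1
  ext q
  constructor
  · rintro ⟨z, hz⟩
    have h1 : z = c (pullback.fst pc pd q) := by
      have := congrArg (pullback.fst p p) hz
      rwa [← Scheme.Hom.comp_apply, pullback.diagonal_fst, ← Scheme.Hom.comp_apply, pullback.lift_fst,
        Scheme.Hom.comp_apply] at this
    have h2 : z = d (pullback.snd pc pd q) := by
      have := congrArg (pullback.snd p p) hz
      rwa [← Scheme.Hom.comp_apply, pullback.diagonal_snd, ← Scheme.Hom.comp_apply, pullback.lift_snd,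
        Scheme.Hom.comp_apply] at this
    obtain ⟨e, he, -⟩ := hint _ _ (h1.symm.trans h2)
    refine ⟨e, μ.isOpenEmbedding.injective ?_⟩
    rw [← Scheme.Hom.comp_apply, hμ, Scheme.Hom.comp_apply, Scheme.Hom.comp_apply, he, ← h1, hz]
  · rintro ⟨e, rfl⟩
    exact ⟨(m ≫ c) e, by rw [← Scheme.Hom.comp_apply, ← hμ, Scheme.Hom.comp_apply]⟩

theorem isClosed_range_lift_self {C : Scheme.{u}} (pc : C ⟶ S) [IsSeparated pc] :
    IsClosed (Set.range (pullback.lift (𝟙 C) (𝟙 C) rfl : C ⟶ pullback pc pc)) :=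
  (pullback.diagonal pc).isClosedEmbedding.isClosed_range

theorem isClosed_range_lift_swap {C D E : Scheme.{u}} (pc : C ⟶ S) (pd : D ⟶ S)
    (m : E ⟶ C) (n : E ⟶ D) (hm : m ≫ pc = n ≫ pd)
    (hcl : IsClosed (Set.range (pullback.lift m n hm))) :
    IsClosed (Set.range (pullback.lift n m hm.symm)) := by
  have : pullback.lift n m hm.symm = pullback.lift m n hm ≫ (pullbackSymmetry pc pd).hom := by
    apply pullback.hom_ext <;> simp
  rw [this, Scheme.Hom.comp_base, TopCat.coe_comp, Set.range_comp]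
  exact (pullbackSymmetry pc pd).hom.homeomorph.isClosedMap _ hcl

/-- The gluing of two separated schemes along an open with closed graph is separated. -/
theorem exists_glue_separated {O Y₁ Y₂ : Scheme.{u}} (i : O ⟶ Y₁) (j : O ⟶ Y₂) [IsOpenImmersion i]
    [IsOpenImmersion j] (q₁ : Y₁ ⟶ S) (q₂ : Y₂ ⟶ S) [IsSeparated q₁] [IsSeparated q₂]
    [LocallyOfFiniteType q₁] [LocallyOfFiniteType q₂] [IsNoetherian S] [IsNoetherian Y₁] [IsNoetherian Y₂]
    (h : i ≫ q₁ = j ≫ q₂) (hcl : IsClosed (Set.range (pullback.lift i j h))) :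
    ∃ (Z : Scheme.{u}) (a : Y₁ ⟶ Z) (b : Y₂ ⟶ Z) (p : Z ⟶ S),
      IsOpenImmersion a ∧ IsOpenImmersion b ∧ i ≫ a = j ≫ b ∧ a ≫ p = q₁ ∧ b ≫ p = q₂ ∧
      IsNoetherian Z ∧ IsSeparated p ∧ LocallyOfFiniteType p ∧ QuasiCompact p ∧
      (∀ z, z ∈ Set.range a ∨ z ∈ Set.range b) ∧
      (∀ x y, a x = b y → ∃ o, i o = x ∧ j o = y) := by
  obtain ⟨Z, a, b, p, ha, hb, hab, hap, hbp, hcov, hint⟩ := H8Lim.exists_glue_two i j q₁ q₂ h
  have hlft : LocallyOfFiniteType p := by
    refine IsZariskiLocalAtSource.of_iSup_eq_top (P := @LocallyOfFiniteType)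
      (fun s : Bool => bif s then a.opensRange else b.opensRange) ?_ ?_
    · rw [eq_top_iff]
      intro z _
      rcases hcov z with h | h
      · exact Opens.mem_iSup.2 ⟨true, h⟩
      · exact Opens.mem_iSup.2 ⟨false, h⟩
    · rintro (_ | _)
      · show LocallyOfFiniteType (b.opensRange.ι ≫ p)
        rw [← b.isoOpensRange_inv_comp, Category.assoc, hbp]
        infer_instance
      · show LocallyOfFiniteType (a.opensRange.ι ≫ p)
        rw [← a.isoOpensRange_inv_comp, Category.assoc, hap]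
        infer_instance
  have hcomp : CompactSpace Z := ⟨by
    rw [show (Set.univ : Set Z) = Set.range a ∪ Set.range b from
      (Set.eq_univ_of_forall hcov).symm]
    exact (isCompact_range a.continuous).union (isCompact_range b.continuous)⟩
  have hln : IsLocallyNoetherian Z := LocallyOfFiniteType.isLocallyNoetherian p
  have hN : IsNoetherian Z := { }
  refine ⟨Z, a, b, p, ha, hb, hab, hap, hbp, hN, ?_, hlft, quasiCompact_of_isNoetherian p, hcov, hint⟩
  have hcl' : IsClosed (Set.range (pullback.diagonal p)) := by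
    have hc11 := isClosed_preimage_range_diagonal p q₁ q₁ a a hap hap (𝟙 _) (𝟙 _) rfl rfl
      (fun x y e => ⟨x, rfl, a.isOpenEmbedding.injective e⟩) (isClosed_range_lift_self q₁)
    have hc22 := isClosed_preimage_range_diagonal p q₂ q₂ b b hbp hbp (𝟙 _) (𝟙 _) rfl rfl
      (fun x y e => ⟨x, rfl, b.isOpenEmbedding.injective e⟩) (isClosed_range_lift_self q₂)
    have hc12 := isClosed_preimage_range_diagonal p q₁ q₂ a b hap hbp i j h hab hint hcl
    have hc21 := isClosed_preimage_range_diagonal p q₂ q₁ b a hbp hap j i h.symm hab.symm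
      (fun x y e => let ⟨o, h1, h2⟩ := hint y x e.symm; ⟨o, h2, h1⟩)
      (isClosed_range_lift_swap q₁ q₂ i j h hcl)
    rw [← isOpen_compl_iff, isOpen_iff_forall_mem_open]
    intro w hw
    have main : ∀ {C D : Scheme.{u}} (pc : C ⟶ S) (pd : D ⟶ S) (c : C ⟶ Z) (d : D ⟶ Z)
        [IsOpenImmersion c] [IsOpenImmersion d] (hc : c ≫ p = pc) (hd : d ≫ p = pd),
        IsClosed ((pullback.map pc pd p p c d (𝟙 S) (by simp [hc]) (by simp [hd])) ⁻¹'
          Set.range (pullback.diagonal p)) →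
        pullback.fst p p w ∈ Set.range c → pullback.snd p p w ∈ Set.range d →
        ∃ t ⊆ (Set.range (pullback.diagonal p))ᶜ, IsOpen t ∧ w ∈ t := by
      intro C D pc pd c d _ _ hc hd hcl hwc hwd
      let μ := pullback.map pc pd p p c d (𝟙 S) (by simp [hc]) (by simp [hd])
      obtain ⟨q, rfl⟩ : w ∈ Set.range μ := by
        rw [Scheme.Pullback.range_map]; exact ⟨hwc, hwd⟩
      refine ⟨μ '' (μ ⁻¹' Set.range (pullback.diagonal p))ᶜ, ?_,
        μ.isOpenEmbedding.isOpenMap _ hcl.isOpen_compl, ⟨q, hw, rfl⟩⟩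
      rintro _ ⟨q', hq', rfl⟩
      exact hq'
    rcases hcov (pullback.fst p p w) with h1 | h1 <;> rcases hcov (pullback.snd p p w) with h2 | h2
    exacts [main q₁ q₁ a a hap hap hc11 h1 h2, main q₁ q₂ a b hap hbp hc12 h1 h2,
      main q₂ q₁ b a hbp hap hc21 h1 h2, main q₂ q₂ b b hbp hbp hc22 h1 h2]
  exact ⟨IsClosedImmersion.of_isPreimmersion _ hcl'⟩

end Groth.Agent.LocImm12
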