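import Groth.Prelude.Def_W4c5cptfessfintypeLocImm
import Mathlib.AlgebraicGeometry.Noetherian
import Mathlib.AlgebraicGeometry.Morphisms.Flat
import Mathlib.AlgebraicGeometry.Morphisms.UniversallyOpen
import Mathlib.AlgebraicGeometry.Morphisms.Preimmersion
import Mathlib.AlgebraicGeometry.Morphisms.UniversallyInjective

/-! Localizing immersions. -/

universe u

set_option autoImplicit false
set_option backward.isDefEq.respectTransparency false

open CategoryTheory AlgebraicGeometry TopologicalSpace Topology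

namespace Groth.Agent.LocImm12

variable {X Y : Scheme.{u}} {f : X ⟶ Y}

theorem flat_of_isLocalizing (hf : LocImm.IsLocalizing f) : Flat f := by
  rw [HasRingHomProperty.iff_exists_appLE (P := @Flat)
    (RingHom.Flat.stableUnderComposition.stableUnderCompositionWithLocalizationAway
      RingHom.Flat.holdsForLocalizationAway).left]
  intro x
  obtain ⟨U, V, hx, e, h⟩ := hf x
  refine ⟨U, V, hx, e, ?_⟩
  let _ := (f.appLE U V e).hom.toAlgebra
  obtain ⟨S, hS⟩ := h
  exact (IsLocalization.flat Γ(X, (V : X.Opens)) S : Module.Flat Γ(Y, (U : Y.Opens)) Γ(X, (V : X.Opens)))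

theorem isIso_stalkMap_of_isLocHom {U : Y.Opens} (hU : IsAffineOpen U) {V : X.Opens}
    (hV : IsAffineOpen V) (e : V ≤ f ⁻¹ᵁ U) (h : LocImm.IsLocHom (f.appLE U V e).hom) {x : X}
    (hx : x ∈ V) : IsIso (f.stalkMap x) := by
  let _ := (f.appLE U V e).hom.toAlgebra
  obtain ⟨S, hS⟩ := h
  let _ := TopCat.Presheaf.algebra_section_stalk Y.presheaf (⟨f x, e hx⟩ : U)
  let _ := TopCat.Presheaf.algebra_section_stalk X.presheaf (⟨x, hx⟩ : V)
  let _ : Algebra Γ(Y, U) (X.presheaf.stalk x) :=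
    ((algebraMap Γ(X, V) (X.presheaf.stalk x)).comp (algebraMap Γ(Y, U) Γ(X, V))).toAlgebra
  have : IsScalarTower Γ(Y, U) Γ(X, V) (X.presheaf.stalk x) := .of_algebraMap_eq fun _ => rfl
  let q := (hV.primeIdealOf ⟨x, hx⟩).asIdeal
  let p := q.comap (algebraMap Γ(Y, U) Γ(X, V))
  have := hV.isLocalization_stalk ⟨x, hx⟩
  have hxp : IsLocalization.AtPrime (X.presheaf.stalk x) p :=
    IsLocalization.isLocalization_isLocalization_atPrime_isLocalization S (X.presheaf.stalk x) q
  let ψ : Y.presheaf.stalk (f x) →ₐ[Γ(Y, U)] X.presheaf.stalk x :=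
    { (f.stalkMap x).hom with
      commutes' := fun r => by
        show f.stalkMap x (Y.presheaf.germ U (f x) (e hx) r) =
          X.presheaf.germ V x hx (f.appLE U V e r)
        rw [Scheme.Hom.germ_stalkMap_apply, Scheme.Hom.appLE, CommRingCat.comp_apply,
          TopCat.Presheaf.germ_res_apply] }
  have hu : IsLocalization.AtPrime (Y.presheaf.stalk (f x)) (hU.primeIdealOf ⟨f x, e hx⟩).asIdeal :=
    hU.isLocalization_stalk ⟨f x, e hx⟩
  have hp : p = (hU.primeIdealOf ⟨f x, e hx⟩).asIdeal := by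
    have h1 := IsLocalization.AtPrime.under_maximalIdeal (X.presheaf.stalk x) p
    have h2 := IsLocalization.AtPrime.under_maximalIdeal (Y.presheaf.stalk (f x))
      (hU.primeIdealOf ⟨f x, e hx⟩).asIdeal
    have hlocal : IsLocalHom (f.stalkMap x).hom := inferInstance
    rw [← h1, ← h2]
    ext r
    simp only [Ideal.under_def, Ideal.mem_comap, IsLocalRing.mem_maximalIdeal, mem_nonunits_iff]
    rw [← ψ.commutes r]
    exact not_congr (isUnit_map_iff (f.stalkMap x).hom _)
  have hxp' : IsLocalization.AtPrime (X.presheaf.stalk x) (hU.primeIdealOf ⟨f x, e hx⟩).asIdeal := by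
    have := hxp
    simp only [hp] at this
    exact this
  let E := IsLocalization.algEquiv (hU.primeIdealOf ⟨f x, e hx⟩).asIdeal.primeCompl
    (Y.presheaf.stalk (f x)) (X.presheaf.stalk x)
  have hE : ψ = E.toAlgHom :=
    IsLocalization.algHom_ext (hU.primeIdealOf ⟨f x, e hx⟩).asIdeal.primeCompl (Subsingleton.elim _ _)
  rw [ConcreteCategory.isIso_iff_bijective]
  show Function.Bijective ψ
  rw [hE]
  exact E.bijective

theorem isIso_stalkMap (hf : LocImm.IsLocalizing f) (x : X) : IsIso (f.stalkMap x) := by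
  obtain ⟨U, V, hx, e, h⟩ := hf x
  exact isIso_stalkMap_of_isLocHom U.2 V.2 e h hx

theorem generalizingMap_of_isLocalizing (hf : LocImm.IsLocalizing f) : GeneralizingMap f :=
  have := flat_of_isLocalizing hf
  Flat.generalizingMap f

theorem exists_specializes_of_mem_closure_image [NoetherianSpace X] {C : Set X} (hC : IsClosed C)
    {y : Y} (hy : y ∈ closure (f '' C)) : ∃ c ∈ C, f c ⤳ y := by
  obtain ⟨S, hS, hcl, hirr, rfl⟩ := NoetherianSpace.exists_finite_set_isClosed_irreducible hC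
  rw [Set.image_sUnion] at hy
  rw [Set.Finite.closure_sUnion (hS.image _), Set.mem_iUnion₂] at hy
  obtain ⟨_, ⟨Z, hZ, rfl⟩, hyZ⟩ := hy
  have hgen := (hirr Z hZ).isGenericPoint_genericPoint_closure
  rw [(hcl Z hZ).closure_eq] at hgen
  refine ⟨_, Set.mem_sUnion_of_mem hgen.mem hZ, specializes_iff_mem_closure.2 ?_⟩
  refine closure_minimal ?_ isClosed_closure hyZ
  rintro _ ⟨z, hz, rfl⟩
  exact ((hgen.specializes hz).map f.continuous).mem_closure

theorem isEmbedding_of_generalizingMap [NoetherianSpace X] (hinj : Function.Injective f)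
    (hg : GeneralizingMap f) : IsEmbedding f := by
  refine ⟨⟨le_antisymm (continuous_iff_le_induced.1 f.continuous) fun V hV => ?_⟩, hinj⟩
  refine isOpen_induced_iff.2 ⟨(closure (f '' Vᶜ))ᶜ, isClosed_closure.isOpen_compl, ?_⟩
  ext x
  constructor
  · intro hx
    by_contra hxV
    exact hx (subset_closure ⟨x, hxV, rfl⟩)
  · intro hx hcl
    obtain ⟨c, hc, hcx⟩ := exists_specializes_of_mem_closure_image hV.isClosed_compl hcl
    obtain ⟨x', hx', e⟩ := hg hcx
    rw [hinj e] at hx'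
    exact hc (hx'.mem_open hV hx)

theorem isEmbedding [IsNoetherian X] (hf : LocImm.IsLocImmersion f) : IsEmbedding f :=
  isEmbedding_of_generalizingMap hf.2 (generalizingMap_of_isLocalizing hf.1)

theorem isPreimmersion [IsNoetherian X] (hf : LocImm.IsLocImmersion f) : IsPreimmersion f where
  stalkMap_surjective x :=
    ((ConcreteCategory.isIso_iff_bijective _).1 (isIso_stalkMap hf.1 x)).2
  isEmbedding := isEmbedding hf

theorem isOpenImmersion_of_isOpen_range [IsNoetherian X] (hf : LocImm.IsLocImmersion f)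
    (h : IsOpen (Set.range f)) : IsOpenImmersion f :=
  have := fun x => isIso_stalkMap hf.1 x
  IsOpenImmersion.of_isIso_stalkMap f ⟨isEmbedding hf, h⟩

theorem isOpen_of_isClosed_of_stableUnderGeneralization [NoetherianSpace Y] {C : Set Y}
    (hC : IsClosed C) (hg : StableUnderGeneralization C) : IsOpen C := by
  obtain ⟨S, hS, hcl, hirr, hunion⟩ := NoetherianSpace.exists_finite_set_isClosed_irreducible
    (α := Y) isClosed_univ
  have key : C = (⋃ Z ∈ {Z ∈ S | ¬ Z ⊆ C}, Z)ᶜ := by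
    ext y
    simp only [Set.mem_compl_iff, Set.mem_iUnion, Set.mem_setOf_eq, not_exists]
    constructor
    · rintro hy Z ⟨hZ, hne⟩ hyZ
      have hgen := (hirr Z hZ).isGenericPoint_genericPoint_closure
      rw [(hcl Z hZ).closure_eq] at hgen
      exact hne fun z hz => (hgen.specializes hz).mem_closed hC (hg (hgen.specializes hyZ) hy)
    · intro h
      obtain ⟨Z, hZ, hyZ⟩ := hunion.le (Set.mem_univ y)
      by_contra hy
      exact h Z ⟨hZ, fun hsub => hy (hsub hyZ)⟩ hyZ
  rw [key]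
  exact ((hS.subset (Set.sep_subset _ _)).isClosed_biUnion fun Z hZ => hcl Z hZ.1).isOpen_compl

theorem isLocHom_away {A B : Type*} [CommRing A] [CommRing B] [Algebra A B] {S : Submonoid A}
    [IsLocalization S B] {A' B' : Type*} [CommRing A'] [CommRing B'] [Algebra A A'] [Algebra B B']
    [Algebra A' B'] [Algebra A B'] [IsScalarTower A B B'] [IsScalarTower A A' B'] (a : A)
    [IsLocalization.Away a A'] [IsLocalization.Away (algebraMap A B a) B'] :
    ∃ T : Submonoid A', IsLocalization T B' := by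
  let N := IsLocalization.localizationLocalizationSubmodule S (Submonoid.powers (algebraMap A B a))
  have h2 : IsLocalization N B' := IsLocalization.localization_localization_isLocalization S _ B'
  refine ⟨_, IsLocalization.isLocalization_of_submonoid_le A' B' (Submonoid.powers a) N ?_⟩
  rintro _ ⟨n, rfl⟩
  rw [IsLocalization.mem_localizationLocalizationSubmodule]
  exact ⟨⟨_, n, rfl⟩, 1, by simp⟩

end Groth.Agent.LocImm12

namespace Groth.Agent.LocImm12

variable {X Y : Scheme.{u}} {f : X ⟶ Y}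

theorem isLocHom_congr {U : Y.Opens} {V V' : X.Opens} (h : V = V') (e : V ≤ f ⁻¹ᵁ U)
    (e' : V' ≤ f ⁻¹ᵁ U) (hl : LocImm.IsLocHom (f.appLE U V e).hom) :
    LocImm.IsLocHom (f.appLE U V' e').hom := by
  subst h; exact hl

theorem exists_affine_nhd [IsNoetherian X] (hf : LocImm.IsLocImmersion f) (x : X) :
    ∃ V : Y.Opens, f x ∈ V ∧ IsAffineOpen V ∧ IsAffineOpen (f ⁻¹ᵁ V) ∧
      LocImm.IsLocHom (f.app V).hom := by
  obtain ⟨U, V, hx, e, h⟩ := hf.1 x
  obtain ⟨W, hW, hWV⟩ := (isEmbedding hf).isInducing.isOpen_iff.1 (V : X.Opens).2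
  have hxW : f x ∈ W := by
    have : x ∈ f ⁻¹' W := hWV.symm ▸ hx
    exact this
  obtain ⟨a, ha, hxa⟩ := U.2.exists_basicOpen_le (V := ⟨W, hW⟩) ⟨f x, hxW⟩ (e hx)
  let φ := f.appLE (U : Y.Opens) (V : X.Opens) e
  have hpre : f ⁻¹ᵁ Y.basicOpen a = X.basicOpen (φ a) := by
    rw [Scheme.basicOpen_appLE, eq_comm, inf_eq_right]
    exact fun z hz => hWV.le (ha hz)
  refine ⟨Y.basicOpen a, hxa, U.2.basicOpen a, hpre ▸ V.2.basicOpen _, ?_⟩
  have h' : X.basicOpen (φ a) ≤ f ⁻¹ᵁ Y.basicOpen a := hpre.ge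
  have : LocImm.IsLocHom (f.appLE (Y.basicOpen a) (X.basicOpen (φ a)) h').hom := by
    let _ := φ.hom.toAlgebra
    obtain ⟨S, hS⟩ := h
    let _ := (f.appLE (Y.basicOpen a) (X.basicOpen (φ a)) h').hom.toAlgebra
    let _ := (f.appLE (U : Y.Opens) (X.basicOpen (φ a))
      ((X.basicOpen_le _).trans e)).hom.toAlgebra
    let _ := (Y.presheaf.map (homOfLE (Y.basicOpen_le a)).op).hom.toAlgebra
    let _ := (X.presheaf.map (homOfLE (X.basicOpen_le (φ a))).op).hom.toAlgebra
    have : IsScalarTower Γ(Y, (U : Y.Opens)) Γ(X, (V : X.Opens)) Γ(X, X.basicOpen (φ a)) :=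
      .of_algebraMap_eq fun r => by
        show f.appLE (U : Y.Opens) (X.basicOpen (φ a)) _ r = _
        rw [← Scheme.Hom.appLE_map f e (homOfLE (X.basicOpen_le (φ a))).op]
        rfl
    have : IsScalarTower Γ(Y, (U : Y.Opens)) Γ(Y, Y.basicOpen a) Γ(X, X.basicOpen (φ a)) :=
      .of_algebraMap_eq fun r => by
        show f.appLE (U : Y.Opens) (X.basicOpen (φ a)) _ r = _
        rw [← Scheme.Hom.map_appLE f h' (homOfLE (Y.basicOpen_le a)).op]
        rfl
    have : IsLocalization.Away a Γ(Y, Y.basicOpen a) := U.2.isLocalization_basicOpen a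
    have : IsLocalization.Away (algebraMap Γ(Y, (U : Y.Opens)) Γ(X, (V : X.Opens)) a)
        Γ(X, X.basicOpen (φ a)) := V.2.isLocalization_basicOpen (φ a)
    exact isLocHom_away (A := Γ(Y, (U : Y.Opens))) (B := Γ(X, (V : X.Opens))) (S := S) a
  rw [f.app_eq_appLE]
  exact isLocHom_congr hpre.symm h' le_rfl this

theorem isLocalizing_of_affine_nhds
    (H : ∀ x : X, ∃ V : Y.Opens, f x ∈ V ∧ IsAffineOpen V ∧ IsAffineOpen (f ⁻¹ᵁ V) ∧
      LocImm.IsLocHom (f.app V).hom) : LocImm.IsLocalizing f := by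
  intro x
  obtain ⟨V, hx, hV, hV', h⟩ := H x
  exact ⟨⟨V, hV⟩, ⟨f ⁻¹ᵁ V, hV'⟩, hx, le_rfl, by rwa [f.app_eq_appLE] at h⟩

theorem injective_of_affine_nhds
    (H : ∀ x : X, ∃ V : Y.Opens, f x ∈ V ∧ IsAffineOpen V ∧ IsAffineOpen (f ⁻¹ᵁ V) ∧
      LocImm.IsLocHom (f.app V).hom) : Function.Injective f := by
  intro x x' hxx'
  obtain ⟨V, hx, hV, hV', h⟩ := H x
  rw [f.app_eq_appLE] at h
  obtain ⟨p, rfl⟩ := hV'.range_fromSpec.ge (show x ∈ f ⁻¹ᵁ V from hx)
  obtain ⟨p', rfl⟩ := hV'.range_fromSpec.ge (show x' ∈ f ⁻¹ᵁ V by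
    show f x' ∈ V
    rw [← hxx']; exact hx)
  let _ := (f.appLE V (f ⁻¹ᵁ V) le_rfl).hom.toAlgebra
  obtain ⟨S, hS⟩ := h
  have e1 : (Spec.map (f.appLE V (f ⁻¹ᵁ V) le_rfl)) p = (Spec.map (f.appLE V (f ⁻¹ᵁ V) le_rfl)) p' := by
    apply hV.fromSpec.isOpenEmbedding.injective
    rw [← Scheme.Hom.comp_apply, ← Scheme.Hom.comp_apply, hV.SpecMap_appLE_fromSpec f hV' le_rfl,
      Scheme.Hom.comp_apply, Scheme.Hom.comp_apply, hxx']
  rw [PrimeSpectrum.localization_comap_injective Γ(X, f ⁻¹ᵁ V) S e1]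

end Groth.Agent.LocImm12
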