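import Groth.Agent.LocImm12.EssAlg
import Groth.Prelude.Def_EssFT
import Mathlib.AlgebraicGeometry.Morphisms.FiniteType

/-! Localizing morphisms: shrinking, locality, and the locus where a morphism is localizing. -/

universe u

set_option autoImplicit false
set_option backward.isDefEq.respectTransparency false

open CategoryTheory AlgebraicGeometry TopologicalSpace Topology

namespace Groth.Agent.LocImm12

variable {X Y Z W : Scheme.{u}}

theorem isLocHom_comp_iso {A B B' : CommRingCat.{u}} (φ : A ⟶ B) (ψ : B ⟶ B') [IsIso ψ]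
    (h : LocImm.IsLocHom φ.hom) : LocImm.IsLocHom (φ ≫ ψ).hom := by
  let _ := φ.hom.toAlgebra
  obtain ⟨S, hS⟩ := h
  let _ := (φ ≫ ψ).hom.toAlgebra
  exact ⟨S, IsLocalization.isLocalization_of_algEquiv S
    ({ (asIso ψ).commRingCatIsoToRingEquiv with commutes' := fun _ => rfl } : B ≃ₐ[A] B')⟩

theorem isLocHom_iso_comp {A' A B : CommRingCat.{u}} (ψ : A' ⟶ A) [IsIso ψ] (φ : A ⟶ B)
    (h : LocImm.IsLocHom φ.hom) : LocImm.IsLocHom (ψ ≫ φ).hom := by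
  let _ := φ.hom.toAlgebra
  obtain ⟨S, hS⟩ := h
  let _ := (ψ ≫ φ).hom.toAlgebra
  let e : A ≃+* A' := (asIso ψ).commRingCatIsoToRingEquiv.symm
  have hψ : ∀ a, ψ (e a) = a := (asIso ψ).commRingCatIsoToRingEquiv.apply_symm_apply
  refine ⟨S.map e.toMonoidHom, ⟨?_, fun z => ?_, fun {x y} hxy => ?_⟩⟩
  · rintro ⟨_, s, hs, rfl⟩
    show IsUnit (φ (ψ (e s)))
    rw [hψ]
    exact IsLocalization.map_units (M := S) _ ⟨s, hs⟩
  · obtain ⟨⟨a, s⟩, h⟩ := IsLocalization.surj (M := S) z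
    refine ⟨⟨e a, ⟨e s, s, s.2, rfl⟩⟩, ?_⟩
    show z * φ (ψ (e s)) = φ (ψ (e a))
    rw [hψ, hψ]
    exact h
  · obtain ⟨c, hc⟩ := IsLocalization.exists_of_eq (M := S) (S := B) (x := ψ x) (y := ψ y) hxy
    refine ⟨⟨e c, c, c.2, rfl⟩, (asIso ψ).commRingCatIsoToRingEquiv.injective ?_⟩
    rw [map_mul, map_mul]
    show ψ (e c) * ψ x = ψ (e c) * ψ y
    rw [hψ]
    exact hc

theorem isLocHom_source_basicOpen {f : X ⟶ Y} {U : Y.Opens} {V : X.Opens} (hV : IsAffineOpen V)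
    (e : V ≤ f ⁻¹ᵁ U) (h : LocImm.IsLocHom (f.appLE U V e).hom) (d : Γ(X, V)) :
    LocImm.IsLocHom (f.appLE U (X.basicOpen d) ((X.basicOpen_le d).trans e)).hom := by
  let _ := (f.appLE U V e).hom.toAlgebra
  obtain ⟨S, hS⟩ := h
  let _ := (f.appLE U (X.basicOpen d) ((X.basicOpen_le d).trans e)).hom.toAlgebra
  let _ := (X.presheaf.map (homOfLE (X.basicOpen_le d)).op).hom.toAlgebra
  have : IsScalarTower Γ(Y, U) Γ(X, V) Γ(X, X.basicOpen d) := .of_algebraMap_eq fun r => by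
    show f.appLE U (X.basicOpen d) _ r = _
    rw [← Scheme.Hom.appLE_map f e (homOfLE (X.basicOpen_le d)).op]
    rfl
  have : IsLocalization.Away d Γ(X, X.basicOpen d) := hV.isLocalization_basicOpen d
  exact ⟨_, IsLocalization.localization_localization_isLocalization S
    (Submonoid.powers d) Γ(X, X.basicOpen d)⟩

theorem isLocHom_basicOpen {f : X ⟶ Y} {U : Y.Opens} (hU : IsAffineOpen U) {V : X.Opens}
    (hV : IsAffineOpen V) (e : V ≤ f ⁻¹ᵁ U) (h : LocImm.IsLocHom (f.appLE U V e).hom) (a : Γ(Y, U))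
    (h' : X.basicOpen (f.appLE U V e a) ≤ f ⁻¹ᵁ Y.basicOpen a) :
    LocImm.IsLocHom (f.appLE (Y.basicOpen a) (X.basicOpen (f.appLE U V e a)) h').hom := by
  let φ := f.appLE U V e
  let _ := φ.hom.toAlgebra
  obtain ⟨S, hS⟩ := h
  let _ := (f.appLE (Y.basicOpen a) (X.basicOpen (φ a)) h').hom.toAlgebra
  let _ := (f.appLE U (X.basicOpen (φ a)) ((X.basicOpen_le _).trans e)).hom.toAlgebra
  let _ := (Y.presheaf.map (homOfLE (Y.basicOpen_le a)).op).hom.toAlgebra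
  let _ := (X.presheaf.map (homOfLE (X.basicOpen_le (φ a))).op).hom.toAlgebra
  have : IsScalarTower Γ(Y, U) Γ(X, V) Γ(X, X.basicOpen (φ a)) :=
    .of_algebraMap_eq fun r => by
      show f.appLE U (X.basicOpen (φ a)) _ r = _
      rw [← Scheme.Hom.appLE_map f e (homOfLE (X.basicOpen_le (φ a))).op]
      rfl
  have : IsScalarTower Γ(Y, U) Γ(Y, Y.basicOpen a) Γ(X, X.basicOpen (φ a)) :=
    .of_algebraMap_eq fun r => by
      show f.appLE U (X.basicOpen (φ a)) _ r = _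
      rw [← Scheme.Hom.map_appLE f h' (homOfLE (Y.basicOpen_le a)).op]
      rfl
  have : IsLocalization.Away a Γ(Y, Y.basicOpen a) := hU.isLocalization_basicOpen a
  have : IsLocalization.Away (algebraMap Γ(Y, U) Γ(X, V) a) Γ(X, X.basicOpen (φ a)) :=
    hV.isLocalization_basicOpen (φ a)
  exact isLocHom_away (A := Γ(Y, U)) (B := Γ(X, V)) (S := S) a

/-- The open set of points near which a morphism is localizing. -/
def locLocus (g : X ⟶ Y) : X.Opens :=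
  ⨆ (p : Y.affineOpens × X.affineOpens) (_ : ∃ e : p.2.1 ≤ g ⁻¹ᵁ p.1.1,
    LocImm.IsLocHom (g.appLE p.1 p.2 e).hom), p.2.1

theorem mem_locLocus {g : X ⟶ Y} {x : X} :
    x ∈ locLocus g ↔ ∃ (U : Y.affineOpens) (V : X.affineOpens) (_ : x ∈ V.1) (e : V.1 ≤ g ⁻¹ᵁ U.1),
      LocImm.IsLocHom (g.appLE U V e).hom := by
  simp only [locLocus, Opens.mem_iSup, Prod.exists]
  constructor
  · rintro ⟨U, V, ⟨e, h⟩, hx⟩; exact ⟨U, V, hx, e, h⟩
  · rintro ⟨U, V, hx, e, h⟩; exact ⟨U, V, ⟨e, h⟩, hx⟩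

theorem isLocalizing_iff_locLocus {g : X ⟶ Y} : LocImm.IsLocalizing g ↔ locLocus g = ⊤ := by
  rw [eq_top_iff]
  exact ⟨fun h x _ => mem_locLocus.2 (h x), fun h x => mem_locLocus.1 (h (Set.mem_univ x))⟩

theorem exists_pair_le {g : X ⟶ Y} {x : X} (hx : x ∈ locLocus g) (O : Y.Opens) (hO : g x ∈ O)
    (P : X.Opens) (hP : x ∈ P) :
    ∃ (U : Y.affineOpens) (V : X.affineOpens) (_ : x ∈ V.1) (_ : U.1 ≤ O) (_ : V.1 ≤ P)
      (e : V.1 ≤ g ⁻¹ᵁ U.1), LocImm.IsLocHom (g.appLE U V e).hom := by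
  obtain ⟨U, V, hxV, e, h⟩ := mem_locLocus.1 hx
  obtain ⟨a, ha, hxa⟩ := U.2.exists_basicOpen_le (V := O) ⟨g x, hO⟩ (e hxV)
  let c := g.appLE (U : Y.Opens) V e a
  have hle : X.basicOpen c ≤ g ⁻¹ᵁ Y.basicOpen a := by
    rw [Scheme.basicOpen_appLE]; exact inf_le_right
  have hxc : x ∈ X.basicOpen c := by
    rw [Scheme.basicOpen_appLE]; exact ⟨hxV, hxa⟩
  obtain ⟨d, hd, hxd⟩ := (V.2.basicOpen c).exists_basicOpen_le (V := P) ⟨x, hP⟩ hxc
  exact ⟨⟨_, U.2.basicOpen a⟩, ⟨X.basicOpen d, (V.2.basicOpen c).basicOpen d⟩, hxd, ha, hd,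
    (X.basicOpen_le d).trans hle,
    isLocHom_source_basicOpen (V.2.basicOpen c) hle (isLocHom_basicOpen U.2 V.2 e h a hle) d⟩

theorem isIso_appLE_preimage (f : X ⟶ Y) [IsOpenImmersion f] {U : Y.Opens}
    (hU : U ≤ f.opensRange) {V : X.Opens} (h : V = f ⁻¹ᵁ U) (e : V ≤ f ⁻¹ᵁ U) :
    IsIso (f.appLE U V e) := by
  subst h
  rw [← Scheme.Hom.app_eq_appLE]
  exact f.isIso_app U hU

theorem isLocalizing_comp_left (j : W ⟶ X) [IsOpenImmersion j] (g : X ⟶ Y)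
    (h : ∀ w : W, j w ∈ locLocus g) : LocImm.IsLocalizing (j ≫ g) := by
  intro w
  obtain ⟨U, V, hxV, -, hVr, e, hl⟩ := exists_pair_le (h w) ⊤ trivial j.opensRange ⟨w, rfl⟩
  refine ⟨U, ⟨j ⁻¹ᵁ V.1, V.2.preimage_of_isOpenImmersion j hVr⟩, hxV,
    fun z hz => e hz, ?_⟩
  have := isIso_appLE_preimage j hVr rfl le_rfl
  rw [← Scheme.Hom.appLE_comp_appLE j g U.1 V.1 (j ⁻¹ᵁ V.1) e le_rfl]
  exact isLocHom_comp_iso _ _ hl

theorem isLocalizing_comp_right {f : X ⟶ Y} (hf : LocImm.IsLocalizing f) (j : Y ⟶ Z)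
    [IsOpenImmersion j] : LocImm.IsLocalizing (f ≫ j) := by
  intro x
  obtain ⟨U, V, hx, e, h⟩ := hf x
  have hU : U.1 = j ⁻¹ᵁ (j ''ᵁ U.1) := (j.preimage_image_eq U.1).symm
  have := isIso_appLE_preimage j (fun _ hz => (by obtain ⟨z, _, rfl⟩ := hz; exact ⟨z, rfl⟩)) hU hU.le
  have e' : V.1 ≤ (f ≫ j) ⁻¹ᵁ (j ''ᵁ U.1) := by
    rw [Scheme.Hom.comp_preimage, ← hU]; exact e
  refine ⟨⟨j ''ᵁ U.1, U.2.image_of_isOpenImmersion j⟩, V, hx, e', ?_⟩
  rw [← Scheme.Hom.appLE_comp_appLE f j (j ''ᵁ U.1) U.1 V.1 hU.le e]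
  exact isLocHom_iso_comp _ _ h

theorem isLocalizing_of_comp_right {f : X ⟶ Y} (j : Y ⟶ Z) [IsOpenImmersion j]
    (hf : LocImm.IsLocalizing (f ≫ j)) : LocImm.IsLocalizing f := by
  intro x
  obtain ⟨U, V, hx, hU, -, e, h⟩ := exists_pair_le (mem_locLocus.2 (hf x)) j.opensRange ⟨f x, rfl⟩
    ⊤ trivial
  refine ⟨⟨j ⁻¹ᵁ U.1, U.2.preimage_of_isOpenImmersion j hU⟩, V, hx, fun z hz => e hz, ?_⟩
  have := isIso_appLE_preimage j hU rfl le_rfl
  have h2 := isLocHom_iso_comp (inv (j.appLE U.1 (j ⁻¹ᵁ U.1) le_rfl)) _ h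
  rwa [← Scheme.Hom.appLE_comp_appLE f j U.1 (j ⁻¹ᵁ U.1) V.1 le_rfl (fun z hz => e hz),
    IsIso.inv_hom_id_assoc] at h2

theorem isLocalizing_of_cover {f : X ⟶ Y}
    (H : ∀ x : X, ∃ O : X.Opens, x ∈ O ∧ LocImm.IsLocalizing (O.ι ≫ f)) :
    LocImm.IsLocalizing f := by
  intro x
  obtain ⟨O, hxO, hO⟩ := H x
  obtain ⟨U, V, hx, e, h⟩ := hO ⟨x, hxO⟩
  have hV : V.1 = O.ι ⁻¹ᵁ (O.ι ''ᵁ V.1) := (O.ι.preimage_image_eq V.1).symm
  have e' : O.ι ''ᵁ V.1 ≤ f ⁻¹ᵁ U.1 := by rintro _ ⟨z, hz, rfl⟩; exact e hz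
  refine ⟨U, ⟨O.ι ''ᵁ V.1, V.2.image_of_isOpenImmersion O.ι⟩, ⟨_, hx, rfl⟩, e', ?_⟩
  have := isIso_appLE_preimage O.ι (fun _ hz => (by obtain ⟨z, _, rfl⟩ := hz; exact ⟨z, rfl⟩)) hV hV.le
  have h2 := isLocHom_comp_iso _ (inv (O.ι.appLE (O.ι ''ᵁ V.1) V.1 hV.le)) h
  rwa [← Scheme.Hom.appLE_comp_appLE O.ι f U.1 (O.ι ''ᵁ V.1) V.1 e' hV.le, Category.assoc,
    IsIso.hom_inv_id, Category.comp_id] at h2

theorem isLocalizing_specMap {A B : CommRingCat.{u}} (φ : A ⟶ B) (h : LocImm.IsLocHom φ.hom) :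
    LocImm.IsLocalizing (Spec.map φ) := by
  intro x
  refine ⟨⟨⊤, isAffineOpen_top _⟩, ⟨⊤, isAffineOpen_top _⟩, trivial, le_rfl, ?_⟩
  have e : (Spec.map φ).appLE ⊤ ⊤ le_rfl = (Scheme.ΓSpecIso A).hom ≫ φ ≫ (Scheme.ΓSpecIso B).inv := by
    rw [← Scheme.ΓSpecIso_naturality_assoc, Iso.hom_inv_id, Category.comp_id, Scheme.Hom.appTop,
      Scheme.Hom.app_eq_appLE]
    rfl
  rw [e]
  exact isLocHom_iso_comp _ _ (isLocHom_comp_iso _ _ h)

theorem isLocImmersion_specMap {A B : CommRingCat.{u}} (φ : A ⟶ B) (h : LocImm.IsLocHom φ.hom) :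
    LocImm.IsLocImmersion (Spec.map φ) := by
  refine ⟨isLocalizing_specMap φ h, ?_⟩
  let _ := φ.hom.toAlgebra
  obtain ⟨S, hS⟩ := h
  exact PrimeSpectrum.localization_comap_injective B S

theorem mem_locLocus_of_isIso_stalkMap [IsLocallyNoetherian Y] (g : X ⟶ Y)
    [EssFT.LocallyEssFiniteType g] (x : X) [IsIso (g.stalkMap x)] : x ∈ locLocus g := by
  obtain ⟨U, V, hx, e, h⟩ := EssFT.LocallyEssFiniteType.exists_appLE_essFiniteType (f := g) x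
  let _ := (g.appLE U.1 V.1 e).hom.toAlgebra
  have : IsNoetherianRing Γ(Y, U.1) := IsLocallyNoetherian.component_noetherian U
  have : Algebra.EssFiniteType Γ(Y, U.1) Γ(X, V.1) := h
  let _ := TopCat.Presheaf.algebra_section_stalk Y.presheaf (⟨g x, e hx⟩ : U.1)
  let _ := TopCat.Presheaf.algebra_section_stalk X.presheaf (⟨x, hx⟩ : V.1)
  let _ : Algebra Γ(Y, U.1) (X.presheaf.stalk x) :=
    ((algebraMap Γ(X, V.1) (X.presheaf.stalk x)).comp (algebraMap Γ(Y, U.1) Γ(X, V.1))).toAlgebra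
  have : IsScalarTower Γ(Y, U.1) Γ(X, V.1) (X.presheaf.stalk x) := .of_algebraMap_eq fun _ => rfl
  let ψ : Y.presheaf.stalk (g x) →ₐ[Γ(Y, U.1)] X.presheaf.stalk x :=
    { (g.stalkMap x).hom with
      commutes' := fun r => by
        show g.stalkMap x (Y.presheaf.germ U.1 (g x) (e hx) r) =
          X.presheaf.germ V.1 x hx (g.appLE U.1 V.1 e r)
        rw [Scheme.Hom.germ_stalkMap_apply, Scheme.Hom.appLE, CommRingCat.comp_apply,
          TopCat.Presheaf.germ_res_apply] }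
  have hψ : Function.Bijective ψ := ConcreteCategory.bijective_of_isIso (g.stalkMap x)
  have hp : IsLocalization.AtPrime (Y.presheaf.stalk (g x)) (U.2.primeIdealOf ⟨g x, e hx⟩).asIdeal :=
    U.2.isLocalization_stalk ⟨g x, e hx⟩
  have hq : IsLocalization.AtPrime (X.presheaf.stalk x) (V.2.primeIdealOf ⟨x, hx⟩).asIdeal :=
    V.2.isLocalization_stalk ⟨x, hx⟩
  obtain ⟨b, hb, hloc⟩ := exists_isLocalization_away (A := Γ(Y, U.1)) (B := Γ(X, V.1))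
    (U.2.primeIdealOf ⟨g x, e hx⟩).asIdeal (V.2.primeIdealOf ⟨x, hx⟩).asIdeal
    (Y.presheaf.stalk (g x)) (X.presheaf.stalk x) (AlgEquiv.ofBijective ψ hψ)
  have hxb : x ∈ X.basicOpen b := by
    rw [Scheme.mem_basicOpen X b x hx]
    exact IsLocalization.map_units (M := (V.2.primeIdealOf ⟨x, hx⟩).asIdeal.primeCompl)
      (X.presheaf.stalk x) ⟨b, hb⟩
  let e' : X.basicOpen b ≤ g ⁻¹ᵁ U.1 := (X.basicOpen_le b).trans e
  refine mem_locLocus.2 ⟨U, ⟨X.basicOpen b, V.2.basicOpen b⟩, hxb, e', ?_⟩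
  let _ := (g.appLE U.1 (X.basicOpen b) e').hom.toAlgebra
  let _ := (X.presheaf.map (homOfLE (X.basicOpen_le b)).op).hom.toAlgebra
  have : IsScalarTower Γ(Y, U.1) Γ(X, V.1) Γ(X, X.basicOpen b) := .of_algebraMap_eq fun r => by
    show g.appLE U.1 (X.basicOpen b) _ r = _
    rw [← Scheme.Hom.appLE_map g e (homOfLE (X.basicOpen_le b)).op]
    rfl
  have : IsLocalization.Away b Γ(X, X.basicOpen b) := V.2.isLocalization_basicOpen b
  exact hloc Γ(X, X.basicOpen b)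

theorem essFiniteType_of_locallyOfFiniteType (f : X ⟶ Y) [LocallyOfFiniteType f] [QuasiCompact f] :
    EssFT.EssFiniteType f where
  exists_appLE_essFiniteType x := by
    obtain ⟨U, hU, hxU, -⟩ := exists_isAffineOpen_mem_and_subset (x := f x) (U := ⊤) trivial
    obtain ⟨V, hV, hxV, hVU⟩ := exists_isAffineOpen_mem_and_subset (x := x) (U := f ⁻¹ᵁ U) hxU
    refine ⟨⟨U, hU⟩, ⟨V, hV⟩, hxV, hVU, ?_⟩
    let _ := (f.appLE U V hVU).hom.toAlgebra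
    have : Algebra.FiniteType Γ(Y, U) Γ(X, V) := f.finiteType_appLE hU hV hVU
    exact (inferInstance : Algebra.EssFiniteType Γ(Y, U) Γ(X, V))

instance (priority := low) (f : X ⟶ Y) [LocallyOfFiniteType f] [QuasiCompact f] :
    EssFT.EssFiniteType f := essFiniteType_of_locallyOfFiniteType f

end Groth.Agent.LocImm12
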