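import Groth.Agent.LocImm12.Local
import Groth.Agent.FlatMorAdm.Bir
import Groth.Agent.FlatMorAdm.Common
import Groth.Agent.SDiv28.BlowUp
import Groth.Agent.BlowUpLib.Separate
import Groth.Agent.S18194
import Groth.Agent.S18195
import Groth.Agent.S18202
import Groth.Agent.S18204

/-!
# Making a morphism an open immersion near a localizing immersion, after admissible blow-ups
-/

universe u

set_option autoImplicit false
set_option linter.unusedSectionVars false
set_option backward.isDefEq.respectTransparency.types false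
set_option maxHeartbeats 1000000

open CategoryTheory CategoryTheory.Limits AlgebraicGeometry TopologicalSpace

namespace Groth.Agent.LocImm12

variable {W X Y Z S Γ' : Scheme.{u}}

theorem locallyEssFiniteType_of_isLocalizing {f : X ⟶ Y} (hf : LocImm.IsLocalizing f) :
    EssFT.LocallyEssFiniteType f := by
  refine ⟨fun x => ?_⟩
  obtain ⟨U, V, hx, e, h⟩ := hf x
  refine ⟨U, V, hx, e, ?_⟩
  let _ := (f.appLE U.1 V.1 e).hom.toAlgebra
  obtain ⟨T, hT⟩ := h
  exact RingHom.essFiniteType_algebraMap.2 (Algebra.EssFiniteType.of_isLocalization _ T)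

theorem isLocImmersion_comp [IsNoetherian X] [IsNoetherian Z] {f : X ⟶ Y} {g : Y ⟶ Z}
    (hf : LocImm.IsLocImmersion f) (hg : LocImm.IsLocImmersion g) : LocImm.IsLocImmersion (f ≫ g) := by
  have := locallyEssFiniteType_of_isLocalizing hf.1
  have := locallyEssFiniteType_of_isLocalizing hg.1
  have := locallyEssFiniteType_comp f g
  refine ⟨isLocalizing_iff_locLocus.2 (eq_top_iff.2 fun x _ => ?_), fun a b e => hf.2 (hg.2 e)⟩
  have h1 := isIso_stalkMap hf.1 x
  have h2 := isIso_stalkMap hg.1 (f x)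
  have : IsIso ((f ≫ g).stalkMap x) := by
    rw [Scheme.Hom.stalkMap_comp]
    exact @IsIso.comp_isIso _ _ _ _ _ _ _ h2 h1
  exact mem_locLocus_of_isIso_stalkMap _ x

theorem isLocImmersion_comp_openImmersion {f : X ⟶ Y} (hf : LocImm.IsLocImmersion f) (j : Y ⟶ Z)
    [IsOpenImmersion j] : LocImm.IsLocImmersion (f ≫ j) :=
  ⟨isLocalizing_comp_right hf.1 j, fun _ _ e => hf.2 (j.isOpenEmbedding.injective e)⟩

theorem isLocImmersion_id (X : Scheme.{u}) : LocImm.IsLocImmersion (𝟙 X) :=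
  ⟨isLocalizing_of_id X, fun _ _ e => e⟩

/-- After admissible blow-ups of source and target, a separated finite type morphism which is a localizing
immersion along a localizing immersion `t` becomes an open immersion (an isomorphism if it is proper). -/
theorem exists_openImmersion_after_blowUp [IsNoetherian Z] [IsNoetherian Γ'] [IsNoetherian X]
    (p : Γ' ⟶ X) [IsSeparated p] [LocallyOfFiniteType p]
    (t : Z ⟶ Γ') (ht : LocImm.IsLocImmersion t) (htp : LocImm.IsLocImmersion (t ≫ p)) :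
    ∃ (L : Γ'.IdealSheafData) (K : X.IdealSheafData) (Γ'' Xt : Scheme.{u}) (β : Γ'' ⟶ Γ') (c : Xt ⟶ X)
      (jb : Γ'' ⟶ Xt) (d : Z ⟶ Γ''),
      BlowUp.IsBlowUp β L ∧ Disjoint (L.support : Set Γ') (Set.range t) ∧
      BlowUp.IsBlowUp c K ∧ Disjoint (K.support : Set X) (Set.range (t ≫ p)) ∧
      IsOpenImmersion jb ∧ jb ≫ c = β ≫ p ∧ (IsProper p → IsIso jb) ∧ d ≫ β = t ∧
      IsProper β ∧ IsProper c ∧ IsNoetherian Γ'' ∧ IsNoetherian Xt := by
  haveI := isPreimmersion ht
  haveI := isPreimmersion htp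
  haveI : QuasiCompact p := quasiCompact_of_isNoetherian p
  haveI := essFiniteType_of_locallyOfFiniteType p
  obtain ⟨W, htW, hW⟩ := S18194.result t (t ≫ p) p ht htp rfl
  haveI := isNoetherian_opens W
  haveI hWo : IsOpenImmersion (W.ι ≫ p) := S18204.result _ hW
  let U : X.Opens := (W.ι ≫ p).opensRange
  have hWU : W ≤ p ⁻¹ᵁ U := fun w hw => ⟨⟨w, hw⟩, rfl⟩
  have htU : Set.range (t ≫ p) ⊆ (U : Set X) := by
    rintro _ ⟨z, rfl⟩
    exact hWU (htW ⟨z, rfl⟩)
  -- the part of `p⁻¹U` outside `W` is open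
  have hD : IsOpen (((p ⁻¹ᵁ U : Γ'.Opens) : Set Γ') \ (W : Set Γ')) := by
    haveI hr : IsIso ((W.ι ≫ p).isoOpensRange).hom := inferInstance
    let s := (W.ι ≫ p).isoOpensRange.inv ≫ Γ'.homOfLE hWU
    have hs : s ≫ (p ∣_ U) = 𝟙 _ := by
      rw [← cancel_mono U.ι, Category.id_comp]
      simp only [s, Category.assoc, morphismRestrict_ι, Scheme.homOfLE_ι_assoc]
      exact Scheme.Hom.isoOpensRange_inv_comp _
    haveI : IsSeparated (p ∣_ U) := MorphismProperty.of_isPullback (P := @IsSeparated.{u})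
      (isPullback_morphismRestrict p U).flip ‹_›
    haveI : IsClosedImmersion (s ≫ (p ∣_ U)) := by rw [hs]; infer_instance
    haveI : IsClosedImmersion s := IsClosedImmersion.of_comp s (p ∣_ U)
    have hrange : (fun z : (p ⁻¹ᵁ U) => z.1) '' (Set.range s)ᶜ = (((p ⁻¹ᵁ U : Γ'.Opens) : Set Γ') \ (W : Set Γ')) := by
      ext z
      constructor
      · rintro ⟨z, hz, rfl⟩
        refine ⟨z.2, fun hzW => hz ⟨(W.ι ≫ p).isoOpensRange.hom ⟨z.1, hzW⟩, ?_⟩⟩
        apply Subtype.ext
        show (p ⁻¹ᵁ U).ι (s _) = z.1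
        rw [← Scheme.Hom.comp_apply, ← Scheme.Hom.comp_apply]
        simp [s]
      · rintro ⟨hz, hzW⟩
        refine ⟨⟨z, hz⟩, ?_, rfl⟩
        rintro ⟨w, hw⟩
        apply hzW
        have e := congrArg (p ⁻¹ᵁ U).ι hw
        rw [← Scheme.Hom.comp_apply] at e
        simp only [s, Category.assoc, Scheme.homOfLE_ι] at e
        exact (show z = _ from e.symm) ▸ ((W.ι ≫ p).isoOpensRange.inv w).2
    rw [← hrange]
    exact (p ⁻¹ᵁ U).2.isOpenMap_subtype_val _ s.isClosedEmbedding.isClosed_range.isOpen_compl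
  let D : Γ'.Opens := ⟨_, hD⟩
  -- blow up to remove it
  obtain ⟨J, hJ, hJs⟩ := BlowUpLib.exists_finiteType_support_eq (closure (D : Set Γ')) isClosed_closure
    (NoetherianSpace.isCompact _)
  have hJW : BlowUp.IsAdmissibleFor W J := by
    refine ⟨hJ, ?_⟩
    rw [hJs]
    exact (Set.disjoint_left.2 fun z (hz : z ∈ (W : Set Γ')) (hzD : z ∈ (D : Set Γ')) =>
      hzD.2 hz).closure_right W.2 |>.symm
  obtain ⟨Γ₁, β₁, hβ₁⟩ := BlowUpLib.exists_isBlowUp (I := J)
  haveI := BlowUpLib.isProper_of_isBlowUp hβ₁ hJ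
  have hpre : β₁ ⁻¹ᵁ D = ⊥ := by
    rw [eq_bot_iff]
    intro z hz
    have hd := FlatMorAdm.dense_of_isDenseOpen (ModPairLib.isDenseOpen_interior hβ₁.1)
    obtain ⟨y, hy, hyD⟩ := (dense_iff_inter_open.1 hd) _ (β₁ ⁻¹ᵁ D).2 ⟨z, hz⟩
    refine absurd ?_ hyD
    show y ∈ ((J.comap β₁).support : Set Γ₁)
    rw [Scheme.IdealSheafData.support_comap]
    exact hJs.ge (subset_closure hy)
  haveI : IsLocallyNoetherian Γ₁ := LocallyOfFiniteType.isLocallyNoetherian β₁
  haveI : CompactSpace Γ₁ := QuasiCompact.compactSpace_of_compactSpace β₁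
  haveI : IsNoetherian Γ₁ := {}
  let q := β₁ ≫ p
  have hqU : q ⁻¹ᵁ U = β₁ ⁻¹ᵁ W := by
    refine le_antisymm (fun z hz => ?_) (β₁.preimage_mono hWU)
    by_contra hzW
    exact hpre.le (show z ∈ β₁ ⁻¹ᵁ D from ⟨hz, hzW⟩)
  haveI hiso : IsIso (q ∣_ U) := by
    haveI := ProjLib.isIso_morphismRestrict hβ₁ W hJW.2
    have e : (β₁ ⁻¹ᵁ W).ι ≫ q = (β₁ ∣_ W) ≫ W.ι ≫ p := by
      rw [morphismRestrict_ι_assoc]
    haveI : IsOpenImmersion ((β₁ ⁻¹ᵁ W).ι ≫ q) := by rw [e]; infer_instance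
    haveI : IsOpenImmersion ((q ⁻¹ᵁ U).ι ≫ q) := by
      rw [← Γ₁.homOfLE_ι hqU.le, Category.assoc]
      infer_instance
    haveI : IsOpenImmersion ((q ∣_ U) ≫ U.ι) := by rw [morphismRestrict_ι]; infer_instance
    haveI : IsOpenImmersion (q ∣_ U) := IsOpenImmersion.of_comp _ U.ι
    haveI : Surjective (q ∣_ U) := by
      refine ⟨fun u => ?_⟩
      obtain ⟨w, hw⟩ := u.2
      obtain ⟨y, hy⟩ := (β₁ ∣_ W).surjective w
      have hy' : β₁ y.1 = w.1 := by
        rw [← hy, morphismRestrict_base]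
        rfl
      have hqy : q y.1 = u.1 := by
        rw [← hw]
        show p (β₁ y.1) = _
        rw [hy']
        rfl
      refine ⟨⟨y.1, hqU.ge y.2⟩, Subtype.ext ?_⟩
      rw [morphismRestrict_base]
      exact hqy
    exact isIso_of_isOpenImmersion_of_opensRange_eq_top _
      (top_le_iff.1 fun u _ => (q ∣_ U).surjective u)
  obtain ⟨K, Γ'', Xt, b, c, jb, hb, hba, hc, hca, hjb, hcomm, hprop⟩ :=
    FlatMorAdm.exists_openImmersion_of_birational q U (NoetherianSpace.isCompact _)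
  obtain ⟨L, hL, hLa⟩ := FlatMorAdm.exists_isBlowUp_comp W hJW hβ₁ (hqU ▸ hba) hb
  have hLt : Disjoint (L.support : Set Γ') (Set.range t) := hLa.2.mono_right htW
  obtain ⟨d, hd, -⟩ := hL.2 Z t (by
    rw [ProjLib.comap_eq_top_of_disjoint L t hLt.symm]
    exact ProjLib.isEffCartierIdeal_top)
  haveI := BlowUpLib.isProper_of_isBlowUp hL hLa.1
  haveI := BlowUpLib.isProper_of_isBlowUp hc hca.1
  haveI : IsLocallyNoetherian Γ'' := LocallyOfFiniteType.isLocallyNoetherian (b ≫ β₁)
  haveI : CompactSpace Γ'' := QuasiCompact.compactSpace_of_compactSpace (b ≫ β₁)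
  haveI : IsLocallyNoetherian Xt := LocallyOfFiniteType.isLocallyNoetherian c
  haveI : CompactSpace Xt := QuasiCompact.compactSpace_of_compactSpace c
  refine ⟨L, K, Γ'', Xt, b ≫ β₁, c, jb, d, hL, hLt, hc, hca.2.mono_right htU, hjb,
    by rw [hcomm, Category.assoc], fun hp => hprop ?_, hd, inferInstance, inferInstance, {}, {}⟩
  show IsProper (β₁ ≫ p)
  infer_instance

/-- The schematic closure of a graph over a localizing immersion. -/
theorem isLocImmersion_toImage {P : Scheme.{u}} [IsNoetherian Z] [IsNoetherian X] [IsNoetherian P]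
    (g : Z ⟶ P) (π : P ⟶ X) [IsSeparated π] [LocallyOfFiniteType π]
    (h : LocImm.IsLocImmersion (g ≫ π)) :
    IsNoetherian g.image ∧ LocImm.IsLocImmersion g.toImage := by
  haveI : IsLocallyNoetherian g.image := LocallyOfFiniteType.isLocallyNoetherian g.imageι
  haveI : CompactSpace g.image := QuasiCompact.compactSpace_of_compactSpace g.imageι
  haveI hN : IsNoetherian g.image := {}
  haveI : QuasiCompact g := quasiCompact_of_isNoetherian g
  haveI : QuasiCompact g.toImage := quasiCompact_of_isNoetherian _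
  haveI : IsSchemeTheoreticallyDominant g.toImage := ⟨ModPairLib.ker_toImage g⟩
  exact ⟨hN, S18195.result g.toImage (g.imageι ≫ π) (by rwa [Scheme.Hom.toImage_imageι_assoc])
    fun U => g.toImage.app_injective U⟩

end Groth.Agent.LocImm12
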