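import Groth.Agent.FlatMor12.AmpleFamily
import Groth.Agent.AmpleLib.Compose
import Groth.Agent.RelVALib.QuasiProj
import Groth.Agent.RelVALib.Projective

/-!
# Blow-ups in finite type centres are relatively ample, blow-ups of projective schemes are projective
-/

universe u

set_option autoImplicit false
set_option linter.unusedSectionVars false
set_option backward.isDefEq.respectTransparency.types false
set_option maxHeartbeats 1000000

open CategoryTheory CategoryTheory.Limits AlgebraicGeometry Opposite TopologicalSpace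
open Groth.Agent.Coherent Groth.Agent.PicLib Groth.Agent.AmpleLib

namespace Groth.Agent.LocImm12

variable {X X' : Scheme.{u}}

theorem isGen_image_of_restrict {L : X.Modules} {O : X.Opens} {W : O.toScheme.Opens}
    {s : Γ(L.restrict O.ι, W)} (hs : IsGen (L.restrict O.ι) W s) :
    IsGen L (O.ι ''ᵁ W) ((L.restrictAppIso O.ι W).hom s) := by
  intro V hV
  obtain ⟨V', rfl⟩ : ∃ V' : O.toScheme.Opens, O.ι ''ᵁ V' = V := ⟨O.ι ⁻¹ᵁ V, by
    rw [O.ι.image_preimage_eq_opensRange_inf, Scheme.Opens.opensRange_ι, inf_eq_right]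
    exact hV.trans ((O.ι.image_mono le_top).trans (Scheme.Opens.ι_image_top O).le)⟩
  have h' : V' ≤ W := (Scheme.Hom.image_le_image_iff O.ι V' W).1 hV
  have hb1 := ConcreteCategory.bijective_of_isIso (L.restrictAppIso O.ι V').hom
  have hb3 := ConcreteCategory.bijective_of_isIso (O.ι.appIso V').hom
  convert hb1.comp ((hs V' h').comp hb3) using 1
  funext r
  refine Eq.trans ?_ (Scheme.Modules.smul_restrictAppIso_hom_apply O.ι L V' _ _).symm
  rw [← ConcreteCategory.comp_apply (O.ι.appIso V').hom, Iso.hom_inv_id]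
  rfl

theorem isGen_restrict_opens {L : X.Modules} (U : X.Opens) {O : X.Opens} {s : Γ(L, O)}
    (hs : IsGen L O s) :
    IsGen (L.restrict U.ι) (U.ι ⁻¹ᵁ O)
      ((L.restrictAppIso U.ι _).inv (resM L (U.ι.image_preimage_le O) s)) := by
  intro W hW
  have hle : U.ι ''ᵁ W ≤ O := (U.ι.image_mono hW).trans (U.ι.image_preimage_le O)
  have hb := hs (U.ι ''ᵁ W) hle
  have hb3 := ConcreteCategory.bijective_of_isIso (U.ι.appIso W).inv
  have hb2 := ConcreteCategory.bijective_of_isIso (L.restrictAppIso U.ι W).hom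
  refine (Function.Bijective.of_comp_iff' hb2 _).1 ?_
  convert hb.comp hb3 using 1
  funext r
  refine (Scheme.Modules.smul_restrictAppIso_hom_apply U.ι L W r _).trans ?_
  show _ • _ = _ • _
  rw [← resM_resM L (U.ι.image_preimage_le O) (U.ι.image_mono hW) s]
  rfl

theorem isInvertible_restrict_opens {L : X.Modules} (hL : PicF.IsInvertible L) (U : X.Opens) :
    PicF.IsInvertible (L.restrict U.ι) :=
  isInvertible_of_gens fun y => by
    obtain ⟨O, hyO, s, hs⟩ := exists_isGen hL y.1
    exact ⟨U.ι ⁻¹ᵁ O, hyO, _, isGen_restrict_opens U hs⟩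

variable {b : X' ⟶ X} {I : X.IdealSheafData}

/-- The ideal of the exceptional divisor is relatively ample. -/
theorem isRelAmple_idealMod_of_isBlowUp (hb : BlowUp.IsBlowUp b I) (hI : BlowUp.IsFiniteTypeIdeal I) :
    RelAmple.IsRelAmple b (ClSub.idealMod (I.comap b)) := by
  haveI := BlowUpLib.isProper_of_isBlowUp hb hI
  refine ⟨inferInstance, fun V => ?_⟩
  set L := ClSub.idealMod (I.comap b)
  have hL := FlatMor12.IdealModGen.isInvertible_idealMod _ hb.1
  let O := b ⁻¹ᵁ V.1
  have hc : CompactSpace O.toScheme :=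
    isCompact_iff_compactSpace.1 (QuasiCompact.isCompact_preimage (f := b) _ V.1.2 V.2.isCompact)
  refine isAmple_iff_affGlocus.2 ⟨isInvertible_restrict_opens hL O, hc, fun y => ?_⟩
  obtain ⟨a, ha, hya⟩ := BlowUpLib.exists_mem_locus b hb.1 V (y := y.1) y.2 (I.ideal V : Set _) (Ideal.span_eq _)
  obtain ⟨k, hk1, hk2⟩ := FlatMor12.AmpleFamily.exists_section_locus hb V ha
  have hU : O.ι ''ᵁ ⊤ ≤ O := (Scheme.Opens.ι_image_top O).le
  let u : Γ(L.restrict O.ι, ⊤) := (L.restrictAppIso O.ι ⊤).inv (resM L hU k)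
  have hres : ∀ (T : O.toScheme.Opens), (L.restrictAppIso O.ι T).hom (resM _ (le_top : T ≤ ⊤) u) =
      resM L ((O.ι.image_mono le_top).trans hU) k := by
    intro T
    have h1 : (L.restrictAppIso O.ι ⊤).hom u = resM L hU k := by
      simp only [u]
      rw [← ConcreteCategory.comp_apply, Iso.inv_hom_id]
      rfl
    rw [← resM_resM L hU (O.ι.image_mono (le_top : T ≤ ⊤)), ← h1]
    rfl
  have hg : glocus (L.restrict O.ι) u = O.ι ⁻¹ᵁ BlowUpLib.locus I b V a := by
    refine le_antisymm ?_ ?_
    · intro z hz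
      have h1 := isGen_image_of_restrict (isGen_glocus u)
      rw [hres] at h1
      exact hk2 _ _ h1 ⟨z, hz, rfl⟩
    · rw [le_glocus_iff]
      have h1 := isGen_restrict_opens O hk1
      rw [resM_resM, ← hres, ← ConcreteCategory.comp_apply, Iso.hom_inv_id] at h1
      exact h1
  refine ⟨1, one_pos, powSec u 1, ?_, le_top, ?_⟩
  · rw [glocus_powSec (isInvertible_restrict_opens hL O) u 0, hg]
    exact hya
  · rw [glocus_powSec (isInvertible_restrict_opens hL O) u 0, hg]
    exact (FlatMor12.AmpleFamily.isAffineOpen_locus hb V ha).preimage_of_isOpenImmersion O.ι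
      ((BlowUpLib.locus_le b V a).trans (Scheme.Opens.opensRange_ι O).ge)

/-- A blow-up of a projective scheme over a Noetherian base is projective. -/
theorem isProjective_blowUp_comp {S : Scheme.{u}} [IsNoetherian S] (p : X ⟶ S) (hp : RelProj.IsProjective p)
    (hb : BlowUp.IsBlowUp b I) (hI : BlowUp.IsFiniteTypeIdeal I) : RelProj.IsProjective (b ≫ p) := by
  haveI := BlowUpLib.isProper_of_isBlowUp hb hI
  haveI := RelVALib.isProper_of_isProjective hp
  obtain ⟨-, -, K, hK⟩ := RelVALib.isQuasiProjective_of_isProjective hp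
  obtain ⟨n, -, hn⟩ := eventually_isRelAmple_comp b p (isRelAmple_idealMod_of_isBlowUp hb hI) hK
  have hq : RelProj.IsQuasiProjective (b ≫ p) := ⟨inferInstance, inferInstance, _, hn n le_rfl⟩
  obtain ⟨M, hM⟩ := RelVALib.exists_hasBundleImmersion_of_isQuasiProjective
    (Or.inl ⟨inferInstance, inferInstance⟩) hq
  exact RelVALib.isProjective_of_hasBundleImmersion hM.closed_of_isProper

end Groth.Agent.LocImm12
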