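import Groth.Agent.LocImm12.BlowUpExtend

/-!
# A common separated target of finitely many schemes with a common dense open
-/

universe u

set_option autoImplicit false
set_option linter.unusedSectionVars false
set_option backward.isDefEq.respectTransparency.types false
set_option maxHeartbeats 1000000

open CategoryTheory CategoryTheory.Limits AlgebraicGeometry TopologicalSpace

namespace Groth.Agent.LocImm12

variable {S U W : Scheme.{u}}

theorem isNoetherian_of_ft {A B : Scheme.{u}} [IsNoetherian B] (f : A ⟶ B) [LocallyOfFiniteType f]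
    [QuasiCompact f] : IsNoetherian A := by
  haveI : IsLocallyNoetherian A := LocallyOfFiniteType.isLocallyNoetherian f
  haveI : CompactSpace A := QuasiCompact.compactSpace_of_compactSpace f
  exact {}

/-- Admissible blow-ups preserve density of the open. -/
theorem dense_preimage_of_blowUp {X X' : Scheme.{u}} {c : X' ⟶ X} {J : X.IdealSheafData}
    (hc : BlowUp.IsBlowUp c J) (R : X.Opens)
    (hR : ∀ x, x ∉ (J.support : Set X) → x ∈ closure (R : Set X)) :
    Dense ((c ⁻¹ᵁ R : X'.Opens) : Set X') := by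
  let O : X.Opens := J.support.compl
  have hd := FlatMorAdm.dense_of_isDenseOpen (ModPairLib.isDenseOpen_interior hc.1)
  rw [ModPairLib.interior_comap] at hd
  haveI := ProjLib.isIso_morphismRestrict hc O disjoint_compl_right
  rw [dense_iff_inter_open]
  intro V hV hne
  obtain ⟨y, hyV, hyO⟩ := (dense_iff_inter_open.1 hd) V hV hne
  have hyO : y ∈ c ⁻¹ᵁ O := hyO
  have hopen : IsOpen (c '' (V ∩ (c ⁻¹ᵁ O : X'.Opens))) := by
    have e : c '' (V ∩ (c ⁻¹ᵁ O : X'.Opens)) =
        ((c ⁻¹ᵁ O).ι ≫ c) '' ((c ⁻¹ᵁ O).ι ⁻¹' V) := by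
      ext x
      constructor
      · rintro ⟨z, ⟨hz, hzO⟩, rfl⟩
        exact ⟨⟨z, hzO⟩, hz, rfl⟩
      · rintro ⟨z, hz, rfl⟩
        exact ⟨z.1, ⟨hz, z.2⟩, rfl⟩
    rw [e]
    haveI : IsOpenImmersion ((c ⁻¹ᵁ O).ι ≫ c) := by rw [← morphismRestrict_ι]; infer_instance
    exact ((c ⁻¹ᵁ O).ι ≫ c).isOpenEmbedding.isOpenMap _ (hV.preimage (c ⁻¹ᵁ O).ι.continuous)
  obtain ⟨_, ⟨z, ⟨hzV, -⟩, rfl⟩, hzR⟩ := mem_closure_iff.1 (hR (c y) hyO) _ hopen ⟨y, ⟨hyV, hyO⟩, rfl⟩
  exact ⟨z, hzV, hzR⟩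

theorem exists_lift_of_admissible {X X' : Scheme.{u}} {c : X' ⟶ X} {J : X.IdealSheafData}
    (hc : BlowUp.IsBlowUp c J) (j : W ⟶ X) [IsOpenImmersion j]
    (hJ : BlowUp.IsAdmissibleFor j.opensRange J) :
    ∃ v : W ⟶ X', v ≫ c = j ∧ IsOpenImmersion v ∧ Set.range v = (c ⁻¹ᵁ j.opensRange : X'.Opens) := by
  haveI := ProjLib.isIso_morphismRestrict hc j.opensRange hJ.2
  let v := j.isoOpensRange.hom ≫ inv (c ∣_ j.opensRange) ≫ (c ⁻¹ᵁ j.opensRange).ι
  refine ⟨v, ?_, inferInstance, ?_⟩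
  · simp only [v, Category.assoc]
    rw [← morphismRestrict_ι, IsIso.inv_hom_id_assoc, Scheme.Hom.isoOpensRange_hom_ι]
  · simp only [v, ← Category.assoc]
    rw [Scheme.Hom.comp_base, TopCat.coe_comp, Set.range_comp, Set.range_eq_univ.2
      (j.isoOpensRange.hom ≫ inv (c ∣_ j.opensRange)).surjective, Set.image_univ, Scheme.Opens.range_ι]

theorem exists_densify {X : Scheme.{u}} [IsNoetherian X] (j : W ⟶ X) [IsOpenImmersion j] :
    ∃ (J : X.IdealSheafData) (X' : Scheme.{u}) (c : X' ⟶ X) (v : W ⟶ X'),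
      BlowUp.IsBlowUp c J ∧ BlowUp.IsAdmissibleFor j.opensRange J ∧ v ≫ c = j ∧ IsOpenImmersion v ∧
      Dense (Set.range v) := by
  obtain ⟨J, hJ, hJs⟩ := BlowUpLib.exists_finiteType_support_eq (closure ((closure (Set.range j))ᶜ))
    isClosed_closure (NoetherianSpace.isCompact _)
  have hJa : BlowUp.IsAdmissibleFor j.opensRange J := by
    refine ⟨hJ, ?_⟩
    rw [hJs]
    refine ((Set.disjoint_left.2 fun z (hz : z ∈ (j.opensRange : Set X)) hz' => ?_).closure_right
      j.opensRange.2).symm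
    exact hz' (subset_closure hz)
  obtain ⟨X', c, hc⟩ := BlowUpLib.exists_isBlowUp (I := J)
  obtain ⟨v, hv, hvo, hvr⟩ := exists_lift_of_admissible hc j hJa
  refine ⟨J, X', c, v, hc, hJa, hv, hvo, ?_⟩
  rw [hvr]
  refine dense_preimage_of_blowUp hc _ fun x hx => ?_
  by_contra hcl
  exact hx (hJs.ge (subset_closure hcl))

/-- `X i` with open immersions of `W` with dense image glue, after admissible blow-ups, to a separated scheme. -/
theorem exists_common_family [IsNoetherian S] [CompactSpace W] : ∀ (n : ℕ) (X : Fin (n + 1) → Scheme.{u})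
    (g : ∀ i, X i ⟶ S), (∀ i, IsSeparated (g i)) → (∀ i, LocallyOfFiniteType (g i)) →
    (∀ i, QuasiCompact (g i)) → ∀ (j : ∀ i, W ⟶ X i), (∀ i, IsOpenImmersion (j i)) →
    (∀ i, Dense (Set.range (j i))) → ∀ (gW : W ⟶ S), (∀ i, j i ≫ g i = gW) →
    ∃ (Z : Scheme.{u}) (r : Z ⟶ S) (w : W ⟶ Z), IsSeparated r ∧ LocallyOfFiniteType r ∧ QuasiCompact r ∧
      IsOpenImmersion w ∧ w ≫ r = gW ∧ Dense (Set.range w) ∧
      ∀ i, ∃ (I : (X i).IdealSheafData) (X' : Scheme.{u}) (b : X' ⟶ X i) (v : W ⟶ X') (o : X' ⟶ Z)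
        (R : (X i).Opens), (R : Set (X i)) = Set.range (j i) ∧
        BlowUp.IsBlowUp b I ∧ BlowUp.IsAdmissibleFor R I ∧ v ≫ b = j i ∧
        IsOpenImmersion o ∧ o ≫ r = b ≫ g i ∧ v ≫ o = w := by
  intro n
  induction n with
  | zero =>
    intro X g hs hft hqc j hj hjd gW hjg
    refine ⟨X 0, g 0, j 0, hs 0, hft 0, hqc 0, hj 0, hjg 0, hjd 0, fun i => ?_⟩
    obtain rfl : i = 0 := Fin.fin_one_eq_zero i
    refine ⟨⊤, X 0, 𝟙 _, j 0, 𝟙 _, (j 0).opensRange, rfl, ⟨?_, fun Y h _ => ?_⟩,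
      ⟨fun V => by simp [Ideal.fg_top], by simp⟩, Category.comp_id _, inferInstance, rfl, Category.comp_id _⟩
    · rw [Scheme.IdealSheafData.comap_id]
      exact ProjLib.isEffCartierIdeal_top
    · exact ⟨h, Category.comp_id h, fun y hy => by simpa using hy⟩
  | succ n ih =>
    intro X g hs hft hqc j hj hjd gW hjg
    obtain ⟨Z, r, w, hrs, hrf, hrq, hw, hwr, hwd, hold⟩ := ih (fun i => X i.castSucc) (fun i => g i.castSucc)
      (fun i => hs _) (fun i => hft _) (fun i => hqc _) (fun i => j i.castSucc) (fun i => hj _)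
      (fun i => hjd _) gW (fun i => hjg _)
    haveI := hs; haveI := hft; haveI := hqc; haveI := hj
    obtain ⟨Z', q, hqs, hqf, hqq, 𝓘₁, 𝓘₂, Z₁, X₂, β₁, β₂, o₁, o₂, u₁, u₂, hβ₁, ha₁, hβ₂, ha₂, ho₁, ho₂,
        ho₁q, ho₂q, hu₁, hu₂, hu, hu₁o, hu₂o, hcov⟩ :=
      FlatMorAdm.exists_common_target r (g (Fin.last _)) w (j (Fin.last _)) (hwr.trans (hjg _).symm)
    have hwd' : Dense (Set.range (u₁ ≫ o₁)) := by
      have hd₁ : Dense ((β₁ ⁻¹ᵁ w.opensRange : Z₁.Opens) : Set Z₁) :=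
        dense_preimage_of_blowUp hβ₁ _ fun x _ => hwd.closure_eq.ge trivial
      have hd₂ : Dense ((β₂ ⁻¹ᵁ (j (Fin.last _)).opensRange : X₂.Opens) : Set X₂) :=
        dense_preimage_of_blowUp hβ₂ _ fun x _ => (hjd _).closure_eq.ge trivial
      have key : ∀ {A B : Scheme.{u}} (c : A ⟶ B) (m : W ⟶ A) (i : W ⟶ B) [IsOpenImmersion i] (J : B.IdealSheafData),
          BlowUp.IsBlowUp c J → BlowUp.IsAdmissibleFor i.opensRange J → m ≫ c = i →
          Set.range m = (c ⁻¹ᵁ i.opensRange : A.Opens) := by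
        intro A B c m i _ J hc ha e
        obtain ⟨v, hv, -, hvr⟩ := exists_lift_of_admissible hc i ha
        obtain ⟨z, -, hz⟩ := hc.2 W i (by
          rw [ProjLib.comap_eq_top_of_disjoint J i ha.2.symm]
          exact ProjLib.isEffCartierIdeal_top)
        rw [(hz m e).trans (hz v hv).symm, hvr]
      have h1 := key β₁ u₁ w 𝓘₁ hβ₁ ha₁ hu₁
      have h2 := key β₂ u₂ (j _) 𝓘₂ hβ₂ ha₂ hu₂
      intro x
      rcases hcov x with ⟨y, rfl⟩ | ⟨y, rfl⟩
      · have := image_closure_subset_closure_image o₁.continuous ⟨y, (h1 ▸ hd₁) y, rfl⟩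
        rwa [← Set.range_comp] at this
      · have := image_closure_subset_closure_image o₂.continuous ⟨y, (h2 ▸ hd₂) y, rfl⟩
        rw [← Set.range_comp] at this
        rw [hu]
        exact this
    refine ⟨Z', q, u₁ ≫ o₁, hqs, hqf, hqq, inferInstance, ?_, hwd', fun i => ?_⟩
    · rw [Category.assoc, ho₁q, reassoc_of% hu₁, hwr]
    induction i using Fin.lastCases with
    | last => exact ⟨𝓘₂, X₂, β₂, u₂, o₂, _, rfl, hβ₂, ha₂, hu₂, ho₂, ho₂q, hu.symm⟩
    | cast i =>
      obtain ⟨I, X', b, v, o, R, hR, hb, ha, hv, ho, hor, hvo⟩ := hold i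
      haveI := hb
      haveI : QuasiCompact (g i.castSucc) := hqc _
      haveI : IsNoetherian (X i.castSucc) := isNoetherian_of_ft (g i.castSucc)
      have hJ : BlowUp.IsAdmissibleFor (b ⁻¹ᵁ R) (𝓘₁.comap o) := by
        refine ⟨FlatMorAdm.isFiniteType_comap _ _ ha₁.1, Set.disjoint_left.2 fun x hx hxR => ?_⟩
        rw [Scheme.IdealSheafData.support_comap] at hx
        obtain ⟨z, hz⟩ := hR.le hxR
        haveI := ProjLib.isIso_morphismRestrict hb R ha.2
        have hvz : b (v z) = b x := by rw [← Scheme.Hom.comp_apply, hv]; exact hz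
        have : x = v z := congrArg Subtype.val ((b ∣_ R).isOpenEmbedding.injective
          (a₁ := ⟨x, hxR⟩) (a₂ := ⟨v z, show b (v z) ∈ R by rw [hvz]; exact hxR⟩)
          (by rw [morphismRestrict_base]; exact Subtype.ext hvz.symm))
        subst this
        exact Set.disjoint_left.1 ha₁.2 hx ⟨z, by rw [← Scheme.Hom.comp_apply, hvo]⟩
      obtain ⟨K, hK, hKa⟩ := FlatMorAdm.exists_isBlowUp_comp R ha hb hJ
        (SDiv28.isBlowUp_flat_baseChange hβ₁ o)
      refine ⟨K, pullback o β₁, pullback.fst o β₁ ≫ b, pullback.lift v u₁ (by rw [hvo, hu₁]),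
        pullback.snd o β₁ ≫ o₁, R, hR, hK, hKa, ?_, inferInstance, ?_, ?_⟩
      · rw [pullback.lift_fst_assoc, hv]
      · rw [Category.assoc, ho₁q, ← pullback.condition_assoc, hor, Category.assoc]
      · rw [pullback.lift_snd_assoc]

/-- A common model dominated by `U`, open in each of finitely many finite type `S`-schemes. -/
theorem exists_common_open [IsNoetherian S] [IsNoetherian U] : ∀ (n : ℕ) (X : Fin (n + 1) → Scheme.{u})
    (g : ∀ i, X i ⟶ S), (∀ i, IsSeparated (g i)) → (∀ i, LocallyOfFiniteType (g i)) →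
    (∀ i, QuasiCompact (g i)) → ∀ (t : ∀ i, U ⟶ X i), (∀ i, LocImm.IsLocImmersion (t i)) →
    ∀ (gU : U ⟶ S), (∀ i, t i ≫ g i = gU) →
    ∃ (Γ : Scheme.{u}) (π : Γ ⟶ S) (s : U ⟶ Γ) (p : ∀ i, Γ ⟶ X i), IsSeparated π ∧ LocallyOfFiniteType π ∧
      QuasiCompact π ∧ LocImm.IsLocImmersion s ∧ (∀ i, p i ≫ g i = π) ∧ ∀ i, s ≫ p i = t i := by
  intro n
  induction n with
  | zero =>
    intro X g hs hft hqc t ht gU htg
    refine ⟨X 0, g 0, t 0, fun i => eqToHom (congrArg X (Fin.fin_one_eq_zero i).symm), hs 0, hft 0, hqc 0,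
      ht 0, fun i => ?_, fun i => ?_⟩
    · obtain rfl : i = 0 := Fin.fin_one_eq_zero i
      simp
    · obtain rfl : i = 0 := Fin.fin_one_eq_zero i
      simp
  | succ n ih =>
    intro X g hs hft hqc t ht gU htg
    obtain ⟨Γ, π, s, p, hπs, hπf, hπq, hsl, hp, hsp⟩ := ih (fun i => X i.castSucc) (fun i => g i.castSucc)
      (fun i => hs _) (fun i => hft _) (fun i => hqc _) (fun i => t i.castSucc) (fun i => ht _) gU
      (fun i => htg _)
    haveI := hs; haveI := hft; haveI := hqc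
    have w : s ≫ π = t (Fin.last _) ≫ g (Fin.last _) := by
      rw [htg, ← hp 0, reassoc_of% hsp 0]
      exact htg _
    haveI := isNoetherian_of_ft π
    haveI := isNoetherian_of_ft (pullback.fst π (g (Fin.last _)))
    let σ := pullback.lift s (t (Fin.last _)) w
    obtain ⟨hN, hσ⟩ := isLocImmersion_toImage σ (pullback.fst π (g (Fin.last _))) (by
      rw [pullback.lift_fst]; exact hsl)
    let p' : ∀ i, σ.image ⟶ X i := Fin.lastCases (σ.imageι ≫ pullback.snd π (g (Fin.last _)))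
      (fun i => σ.imageι ≫ pullback.fst π (g (Fin.last _)) ≫ p i)
    refine ⟨σ.image, σ.imageι ≫ pullback.fst π (g (Fin.last _)) ≫ π, σ.toImage, p', inferInstance,
      inferInstance, inferInstance, hσ, fun i => ?_, fun i => ?_⟩
    · induction i using Fin.lastCases with
      | last => simp only [p', Fin.lastCases_last, Category.assoc, pullback.condition]
      | cast i => simp only [p', Fin.lastCases_castSucc, Category.assoc, hp]
    · induction i using Fin.lastCases with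
      | last => simp only [p', Fin.lastCases_last, Scheme.Hom.toImage_imageι_assoc]; exact pullback.lift_snd _ _ _
      | cast i => simp only [p', Fin.lastCases_castSucc, Scheme.Hom.toImage_imageι_assoc]
                  rw [pullback.lift_fst_assoc, hsp]

end Groth.Agent.LocImm12
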