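import Groth.Agent.CAlgMisc2.SpreadIso
import Groth.Agent.LocImm12.Basic

/-! An essentially finite type algebra with a bijection on local rings is localizing nearby. -/

universe u

set_option autoImplicit false

namespace Groth.Agent.LocImm12

theorem exists_isLocalization_away {A B : Type u} [CommRing A] [CommRing B] [Algebra A B]
    [IsNoetherianRing A] [Algebra.EssFiniteType A B] (p : Ideal A) [p.IsPrime] (q : Ideal B) [q.IsPrime]
    (Ap Bq : Type u) [CommRing Ap] [CommRing Bq] [Algebra A Ap] [IsLocalization.AtPrime Ap p]
    [Algebra B Bq] [IsLocalization.AtPrime Bq q] [Algebra A Bq] [IsScalarTower A B Bq]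
    (e : Ap ≃ₐ[A] Bq) :
    ∃ b ∉ q, ∀ (Bb : Type u) [CommRing Bb] [Algebra B Bb] [IsLocalization.Away b Bb] [Algebra A Bb]
      [IsScalarTower A B Bb], ∃ T : Submonoid A, IsLocalization T Bb := by
  let B₀ := Algebra.EssFiniteType.subalgebra A B
  have : Algebra.FinitePresentation A B₀ := Algebra.FinitePresentation.of_finiteType.1 inferInstance
  let q₀ : Ideal B₀ := q.comap (algebraMap B₀ B)
  have : IsScalarTower A B₀ Bq := .of_algebraMap_eq fun r => by
    show _ = algebraMap B Bq (algebraMap B₀ B (algebraMap A B₀ r))
    rw [← IsScalarTower.algebraMap_apply A B₀ B, ← IsScalarTower.algebraMap_apply A B Bq]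
  have : IsLocalization.AtPrime Bq q₀ :=
    IsLocalization.isLocalization_isLocalization_atPrime_isLocalization
      (Algebra.EssFiniteType.submonoid A B) Bq q
  obtain ⟨g, g', hg, hg', ⟨E⟩⟩ := CAlgMisc2.exists_iso_of_iso_atPrime (R := A) p q₀
    ((((IsLocalization.algEquiv p.primeCompl (Localization.AtPrime p) Ap).restrictScalars A).trans e).trans
      ((IsLocalization.algEquiv q₀.primeCompl Bq (Localization.AtPrime q₀)).restrictScalars A))
  refine ⟨algebraMap B₀ B g', hg', ?_⟩
  intro Bb _ _ _ _ _
  let m : Localization.Away g' →+* Bb :=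
    IsLocalization.Away.lift g' (g := algebraMap B₀ Bb)
      (show IsUnit (algebraMap B Bb (algebraMap B₀ B g')) from IsLocalization.Away.algebraMap_isUnit _)
  let _ : Algebra (Localization.Away g') Bb := m.toAlgebra
  have : IsScalarTower B₀ (Localization.Away g') Bb :=
    .of_algebraMap_eq fun r => (IsLocalization.Away.lift_eq _ _ r).symm
  obtain ⟨T, hT⟩ := isLocHom_away (A := B₀) (B := B) (S := Algebra.EssFiniteType.submonoid A B)
    (A' := Localization.Away g') (B' := Bb) g'
  have : IsScalarTower A (Localization.Away g') Bb := .of_algebraMap_eq fun r => by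
    show _ = m (algebraMap A (Localization.Away g') r)
    rw [IsScalarTower.algebraMap_apply A B₀ (Localization.Away g'), IsLocalization.Away.lift_eq,
      IsScalarTower.algebraMap_apply A B Bb, IsScalarTower.algebraMap_apply A B₀ B]
    rfl
  have hEl : IsLocalization (Submonoid.powers g) (Localization.Away g') :=
    IsLocalization.isLocalization_of_algEquiv _ E
  exact ⟨_, IsLocalization.localization_localization_isLocalization (Submonoid.powers g) T Bb⟩

end Groth.Agent.LocImm12
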