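import Groth.Agent.LocImm12.GlueFactor

/-! Factorisation of separated essentially finite type morphisms of Noetherian schemes. -/

universe u

set_option autoImplicit false
set_option backward.isDefEq.respectTransparency false

open CategoryTheory CategoryTheory.Limits AlgebraicGeometry TopologicalSpace Topology

namespace Groth.Agent.LocImm12

variable {X S : Scheme.{u}}

/-- A factorisation over an open. -/
def HasFactor (f : X ⟶ S) (U : X.Opens) : Prop :=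
  ∃ (Y : Scheme.{u}) (k : U.toScheme ⟶ Y) (p : Y ⟶ S), IsNoetherian Y ∧ LocImm.IsLocImmersion k ∧
    IsSeparated p ∧ LocallyOfFiniteType p ∧ k ≫ p = U.ι ≫ f

theorem hasFactor_affine [IsNoetherian X] [IsNoetherian S] (f : X ⟶ S) [EssFT.LocallyEssFiniteType f]
    (x : X) : ∃ V : X.Opens, x ∈ V ∧ HasFactor f V := by
  obtain ⟨U, V, hx, e, h⟩ := EssFT.LocallyEssFiniteType.exists_appLE_essFiniteType (f := f) x
  refine ⟨V, hx, ?_⟩
  let φ := f.appLE U.1 V.1 e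
  let _ := φ.hom.toAlgebra
  have : Algebra.EssFiniteType Γ(S, U.1) Γ(X, V.1) := h
  let B₀ := Algebra.EssFiniteType.subalgebra Γ(S, U.1) Γ(X, V.1)
  let R : CommRingCat.{u} := CommRingCat.of B₀
  let α : Γ(S, U.1) ⟶ R := CommRingCat.ofHom (algebraMap Γ(S, U.1) B₀)
  let β : R ⟶ Γ(X, V.1) := CommRingCat.ofHom (algebraMap B₀ Γ(X, V.1))
  have hαβ : α ≫ β = φ := rfl
  have : IsNoetherianRing Γ(S, U.1) := IsLocallyNoetherian.component_noetherian U
  have : IsNoetherianRing R := Algebra.FiniteType.isNoetherianRing Γ(S, U.1) B₀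
  have hβ : LocImm.IsLocImmersion (Spec.map β) := isLocImmersion_specMap β
    (by
      show LocImm.IsLocHom (algebraMap B₀ Γ(X, V.1))
      refine ⟨Algebra.EssFiniteType.submonoid Γ(S, U.1) Γ(X, V.1), ?_⟩
      convert (Algebra.EssFiniteType.isLocalization _ _ : IsLocalization
        (Algebra.EssFiniteType.submonoid Γ(S, U.1) Γ(X, V.1)) Γ(X, V.1)) using 1)
  have : LocallyOfFiniteType (Spec.map α) := by
    rw [HasRingHomProperty.Spec_iff (P := @LocallyOfFiniteType)]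
    exact RingHom.finiteType_algebraMap.2 inferInstance
  refine ⟨Spec R, V.2.isoSpec.hom ≫ Spec.map β, Spec.map α ≫ U.2.fromSpec, inferInstance,
    ⟨isLocalizing_comp_openImmersion_left _ hβ.1,
      fun a b e => V.2.isoSpec.hom.isOpenEmbedding.injective (hβ.2 e)⟩, inferInstance, inferInstance, ?_⟩
  rw [Category.assoc, ← Spec.map_comp_assoc, hαβ, U.2.SpecMap_appLE_fromSpec f V.2 e,
    IsAffineOpen.isoSpec_hom_fromSpec_assoc]

theorem hasFactor_sup [IsNoetherian X] [IsNoetherian S] {f : X ⟶ S} [IsSeparated f] {U V : X.Opens}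
    (hU : HasFactor f U) (hV : HasFactor f V) : HasFactor f (U ⊔ V) := by
  obtain ⟨Y₁, k₁, p₁, hY₁, hk₁, hs₁, hf₁, h₁⟩ := hU
  obtain ⟨Y₂, k₂, p₂, hY₂, hk₂, hs₂, hf₂, h₂⟩ := hV
  have := isNoetherian_opens (U ⊔ V)
  let j₁ : ((U ⊔ V).ι ⁻¹ᵁ U).toScheme ⟶ U.toScheme :=
    IsOpenImmersion.lift U.ι (((U ⊔ V).ι ⁻¹ᵁ U).ι ≫ (U ⊔ V).ι)
      (by rw [Scheme.Opens.range_ι]; rintro _ ⟨x, rfl⟩; exact x.2)
  let j₂ : ((U ⊔ V).ι ⁻¹ᵁ V).toScheme ⟶ V.toScheme :=
    IsOpenImmersion.lift V.ι (((U ⊔ V).ι ⁻¹ᵁ V).ι ≫ (U ⊔ V).ι)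
      (by rw [Scheme.Opens.range_ι]; rintro _ ⟨x, rfl⟩; exact x.2)
  have hj₁ : j₁ ≫ U.ι = _ := IsOpenImmersion.lift_fac _ _ _
  have hj₂ : j₂ ≫ V.ι = _ := IsOpenImmersion.lift_fac _ _ _
  have : IsOpenImmersion (j₁ ≫ U.ι) := hj₁ ▸ inferInstance
  have : IsOpenImmersion (j₂ ≫ V.ι) := hj₂ ▸ inferInstance
  have : IsOpenImmersion j₁ := IsOpenImmersion.of_comp j₁ U.ι
  have : IsOpenImmersion j₂ := IsOpenImmersion.of_comp j₂ V.ι
  obtain ⟨Y, k, p, hY, hk, hs, hf, -, h⟩ := exists_factor_sup ((U ⊔ V).ι ≫ f) ((U ⊔ V).ι ⁻¹ᵁ U)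
    ((U ⊔ V).ι ⁻¹ᵁ V) (eq_top_iff.2 fun x _ => x.2) Y₁ Y₂ (j₁ ≫ k₁) (j₂ ≫ k₂) p₁ p₂
    ⟨isLocalizing_comp_openImmersion_left _ hk₁.1, fun a b e => j₁.isOpenEmbedding.injective (hk₁.2 e)⟩
    ⟨isLocalizing_comp_openImmersion_left _ hk₂.1, fun a b e => j₂.isOpenEmbedding.injective (hk₂.2 e)⟩
    (by rw [Category.assoc, h₁, reassoc_of% hj₁]) (by rw [Category.assoc, h₂, reassoc_of% hj₂])
  exact ⟨Y, k, p, hY, hk, hs, hf, h⟩

theorem exists_factor [IsNoetherian X] [IsNoetherian S] (f : X ⟶ S) [IsSeparated f]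
    [EssFT.LocallyEssFiniteType f] :
    ∃ (Y : Scheme.{u}) (k : X ⟶ Y) (p : Y ⟶ S), IsNoetherian Y ∧ LocImm.IsLocImmersion k ∧
      IsSeparated p ∧ LocallyOfFiniteType p ∧ QuasiCompact p ∧ k ≫ p = f := by
  classical
  choose V hV hF using hasFactor_affine f
  obtain ⟨t, ht⟩ := isCompact_univ.elim_finite_subcover (fun x : X => (V x : Set X))
    (fun x => (V x).2) (fun x _ => Set.mem_iUnion.2 ⟨x, hV x⟩)
  have hbot : HasFactor f ⊥ := by
    have hN := isNoetherian_opens (⊥ : X.Opens)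
    have : IsEmpty (⊥ : X.Opens).toScheme := ⟨fun x => x.2.elim⟩
    exact ⟨_, 𝟙 _, (⊥ : X.Opens).ι ≫ f, hN,
      ⟨fun x => isEmptyElim x, fun a _ _ => isEmptyElim a⟩, inferInstance, inferInstance,
      Category.id_comp _⟩
  have hsup : ∀ t : Finset X, HasFactor f (t.sup V) := fun t => by
    induction t using Finset.induction_on with
    | empty => exact hbot
    | insert a s _ ih => rw [Finset.sup_insert]; exact hasFactor_sup (hF a) ih
  have hF' : HasFactor f ⊤ := by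
    convert hsup t
    refine (eq_top_iff.2 fun x _ => ?_).symm
    obtain ⟨i, hi, hxi⟩ := Set.mem_iUnion₂.1 (ht (Set.mem_univ x))
    exact (Finset.le_sup (f := V) hi) hxi
  obtain ⟨Y, k, p, hY, hk, hs, hf, h⟩ := hF'
  refine ⟨Y, X.topIso.inv ≫ k, p, hY, ⟨isLocalizing_comp_openImmersion_left _ hk.1,
    fun a b e => X.topIso.inv.isOpenEmbedding.injective (hk.2 e)⟩, hs, hf,
    quasiCompact_of_isNoetherian p, ?_⟩
  rw [Category.assoc, h, ← Scheme.topIso_hom, Iso.inv_hom_id_assoc]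

end Groth.Agent.LocImm12
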