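import Groth.Agent.LocImm12.Nbhd
import Mathlib.AlgebraicGeometry.Pullbacks

/-! Noetherian bookkeeping. -/

universe u

set_option autoImplicit false

open CategoryTheory CategoryTheory.Limits AlgebraicGeometry TopologicalSpace

namespace Groth.Agent.LocImm12

variable {X Y S : Scheme.{u}}

theorem isNoetherian_opens [IsNoetherian X] (U : X.Opens) : IsNoetherian U.toScheme := by
  have : IsLocallyNoetherian U.toScheme := isLocallyNoetherian_of_isOpenImmersion U.ι
  have : CompactSpace U.toScheme :=
    isCompact_iff_compactSpace.mp (NoetherianSpace.isCompact (U : Set X))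
  exact { }

theorem isNoetherian_of_lft (f : X ⟶ S) [IsNoetherian S] [LocallyOfFiniteType f] [QuasiCompact f] :
    IsNoetherian X := by
  have : IsLocallyNoetherian X := LocallyOfFiniteType.isLocallyNoetherian f
  have : CompactSpace X := QuasiCompact.compactSpace_of_compactSpace f
  exact { }

theorem quasiCompact_of_isNoetherian (f : X ⟶ S) [IsNoetherian X] : QuasiCompact f :=
  ⟨fun _ _ _ => NoetherianSpace.isCompact _⟩

end Groth.Agent.LocImm12

namespace Groth.Agent.LocImm12

variable {X Y : Scheme.{u}}

theorem toImage_app_injective (f : X ⟶ Y) [QuasiCompact f] (U : f.image.Opens) :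
    Function.Injective (f.toImage.app U).hom :=
  TopCat.Presheaf.app_injective_of_stalkFunctor_map_injective (F := f.image.sheaf) f.toImage.c U
    fun x _ => f.stalkFunctor_toImage_injective x

end Groth.Agent.LocImm12
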