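import Groth.Agent.LocImm12.Separate
import Groth.Agent.S18193

/-! Gluing factorisations `localizing immersion ≫ separated finite type`. -/

universe u

set_option autoImplicit false
set_option backward.isDefEq.respectTransparency false

open CategoryTheory CategoryTheory.Limits AlgebraicGeometry TopologicalSpace Topology

namespace Groth.Agent.LocImm12

variable {X S : Scheme.{u}}

theorem isLocalizing_comp_openImmersion_left {W Y : Scheme.{u}} (j : W ⟶ X) [IsOpenImmersion j]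
    {g : X ⟶ Y} (hg : LocImm.IsLocalizing g) : LocImm.IsLocalizing (j ≫ g) :=
  isLocalizing_comp_left j g fun w => mem_locLocus.2 (hg (j w))

theorem isClosed_closure_diff_range {A B : Scheme.{u}} (l : A ⟶ B) [IsImmersion l] :
    IsClosed (closure (Set.range l) \ Set.range l) :=
  isOpen_compl_iff.1 (show IsOpen (closure (Set.range l) \ Set.range l)ᶜ from
    l.isLocallyClosed_range.isOpen_coborder)

/-- A point over both images in the closure of the graph lies on the graph. -/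
theorem mem_range_of_mem_closure [IsNoetherian X] (f : X ⟶ S) [IsSeparated f] {U₁ U₂ : X.Opens}
    {Y₁ Y₂ W : Scheme.{u}} [IsNoetherian W]
    (k₁ : (U₁ : Scheme.{u}) ⟶ Y₁) (k₂ : (U₂ : Scheme.{u}) ⟶ Y₂) (p₁ : Y₁ ⟶ S) (p₂ : Y₂ ⟶ S)
    (hk₁ : LocImm.IsLocImmersion k₁) (hk₂ : LocImm.IsLocImmersion k₂)
    (h₁ : k₁ ≫ p₁ = U₁.ι ≫ f) (h₂ : k₂ ≫ p₂ = U₂.ι ≫ f)
    (g₁ : W ⟶ Y₁) (g₂ : W ⟶ Y₂) [IsOpenImmersion g₁] (hg : g₁ ≫ p₁ = g₂ ≫ p₂)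
    (kW : (U₁ ⊓ U₂).toScheme ⟶ W) (hw₁ : kW ≫ g₁ = X.homOfLE inf_le_left ≫ k₁)
    (hw₂ : kW ≫ g₂ = X.homOfLE inf_le_right ≫ k₂)
    (hpre : ∀ u w, k₁ u = g₁ w → U₁.ι u ∈ U₂)
    (z : ↥(pullback p₁ p₂)) (hz : z ∈ closure (Set.range (pullback.lift g₁ g₂ hg)))
    (hz₁ : pullback.fst p₁ p₂ z ∈ Set.range k₁) (hz₂ : pullback.snd p₁ p₂ z ∈ Set.range k₂) :
    z ∈ Set.range (pullback.lift g₁ g₂ hg) := by
  have := isNoetherian_opens U₁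
  have := isNoetherian_opens U₂
  let l := pullback.lift g₁ g₂ hg
  rw [← Set.image_univ] at hz
  obtain ⟨ζ, -, hζ⟩ := exists_specializes_of_mem_closure_image isClosed_univ hz
  have hζ₁ : g₁ ζ ⤳ pullback.fst p₁ p₂ z := by
    have := hζ.map (pullback.fst p₁ p₂).continuous
    rwa [← Scheme.Hom.comp_apply, pullback.lift_fst] at this
  obtain ⟨u₁, hu₁⟩ := hz₁
  obtain ⟨u, -, hu⟩ := generalizingMap_of_isLocalizing hk₁.1 (hu₁.symm ▸ hζ₁)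
  let u' : (U₁ ⊓ U₂).toScheme := ⟨u.1, u.2, hpre u ζ hu⟩
  have huζ : kW u' = ζ := g₁.isOpenEmbedding.injective (by
    rw [← Scheme.Hom.comp_apply, hw₁, Scheme.Hom.comp_apply, show X.homOfLE inf_le_left u' = u from U₁.ι.isOpenEmbedding.injective (by rw [← Scheme.Hom.comp_apply, Scheme.homOfLE_ι]; rfl), hu])
  -- the map from the product of the opens
  let Q := pullback (U₁.ι ≫ f) (U₂.ι ≫ f)
  let K : Q ⟶ pullback p₁ p₂ := pullback.map _ _ _ _ k₁ k₂ (𝟙 S) (by simp [h₁]) (by simp [h₂])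
  let π : Q ⟶ pullback f f := pullback.map _ _ _ _ U₁.ι U₂.ι (𝟙 S) (by simp) (by simp)
  let δ : (U₁ ⊓ U₂).toScheme ⟶ Q :=
    pullback.lift (X.homOfLE inf_le_left) (X.homOfLE inf_le_right) (by simp)
  have hδK : δ ≫ K = kW ≫ l := by
    apply pullback.hom_ext <;> simp [δ, K, l, hw₁, hw₂]
  have hδπ : δ ≫ π = (U₁ ⊓ U₂).ι ≫ pullback.diagonal f := by
    apply pullback.hom_ext <;> simp [δ, π]
  have hK : IsPreimmersion K := MorphismProperty.pullbackMap (P := @IsPreimmersion)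
    (isPreimmersion hk₁) (isPreimmersion hk₂) h₁.symm h₂.symm
  have hclδ : IsClosed (Set.range δ) := by
    have : Set.range δ = π ⁻¹' Set.range (pullback.diagonal f) := by
      ext q
      constructor
      · rintro ⟨v, rfl⟩
        exact ⟨(U₁ ⊓ U₂).ι v, by rw [← Scheme.Hom.comp_apply, ← Scheme.Hom.comp_apply, hδπ]⟩
      · rintro ⟨x, hx⟩
        have hx1 : x ∈ U₁ := by
          have := congrArg (pullback.fst f f) hx
          rw [← Scheme.Hom.comp_apply, pullback.diagonal_fst, ← Scheme.Hom.comp_apply,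
            pullback.lift_fst, Scheme.Hom.comp_apply] at this
          exact (show x = _ from this) ▸ (pullback.fst (U₁.ι ≫ f) (U₂.ι ≫ f) q).2
        have hx2 : x ∈ U₂ := by
          have := congrArg (pullback.snd f f) hx
          rw [← Scheme.Hom.comp_apply, pullback.diagonal_snd, ← Scheme.Hom.comp_apply,
            pullback.lift_snd, Scheme.Hom.comp_apply] at this
          exact (show x = _ from this) ▸ (pullback.snd (U₁.ι ≫ f) (U₂.ι ≫ f) q).2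
        refine ⟨⟨x, hx1, hx2⟩, π.isOpenEmbedding.injective ?_⟩
        rw [← hx, ← Scheme.Hom.comp_apply, hδπ]
        rfl
    rw [this]
    exact (pullback.diagonal f).isClosedEmbedding.isClosed_range.preimage π.continuous
  obtain ⟨q, hq⟩ : z ∈ Set.range K := by
    rw [Scheme.Pullback.range_map]; exact ⟨⟨u₁, hu₁⟩, hz₂⟩
  have hKq : δ u' ⤳ q := K.isEmbedding.isInducing.specializes_iff.1 (by
    rw [hq, ← Scheme.Hom.comp_apply, hδK, Scheme.Hom.comp_apply, huζ]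
    exact hζ)
  obtain ⟨v, rfl⟩ := hKq.mem_closed hclδ ⟨u', rfl⟩
  exact ⟨kW v, by rw [← hq, ← Scheme.Hom.comp_apply, ← Scheme.Hom.comp_apply, hδK]⟩

theorem isClosed_range_lift_restrict {Y₁ Y₂ W : Scheme.{u}} (p₁ : Y₁ ⟶ S) (p₂ : Y₂ ⟶ S)
    (g₁ : W ⟶ Y₁) (g₂ : W ⟶ Y₂) (hg : g₁ ≫ p₁ = g₂ ≫ p₂) (O₁ : Y₁.Opens) (O₂ : Y₂.Opens)
    (W' : W.Opens) (hW' : ∀ w, g₁ w ∈ O₁ → g₂ w ∈ O₂ → w ∈ W')
    (i : W'.toScheme ⟶ O₁.toScheme) (j : W'.toScheme ⟶ O₂.toScheme)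
    (hi : i ≫ O₁.ι = W'.ι ≫ g₁) (hj : j ≫ O₂.ι = W'.ι ≫ g₂)
    (hij : i ≫ O₁.ι ≫ p₁ = j ≫ O₂.ι ≫ p₂)
    (hbad : ∀ z ∈ closure (Set.range (pullback.lift g₁ g₂ hg)), pullback.fst p₁ p₂ z ∈ O₁ →
      pullback.snd p₁ p₂ z ∈ O₂ → z ∈ Set.range (pullback.lift g₁ g₂ hg)) :
    IsClosed (Set.range (pullback.lift i j hij)) := by
  let π : pullback (O₁.ι ≫ p₁) (O₂.ι ≫ p₂) ⟶ pullback p₁ p₂ :=
    pullback.map _ _ _ _ O₁.ι O₂.ι (𝟙 S) (by simp) (by simp)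
  have hπ : pullback.lift i j hij ≫ π = W'.ι ≫ pullback.lift g₁ g₂ hg := by
    apply pullback.hom_ext <;> simp [π, hi, hj]
  have : Set.range (pullback.lift i j hij) = π ⁻¹' closure (Set.range (pullback.lift g₁ g₂ hg)) := by
    ext q
    constructor
    · rintro ⟨w, rfl⟩
      exact subset_closure ⟨W'.ι w, by rw [← Scheme.Hom.comp_apply, ← hπ, Scheme.Hom.comp_apply]⟩
    · intro hq
      have e1 : pullback.fst p₁ p₂ (π q) ∈ O₁ := by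
        rw [← Scheme.Hom.comp_apply, pullback.lift_fst, Scheme.Hom.comp_apply]
        exact (pullback.fst (O₁.ι ≫ p₁) (O₂.ι ≫ p₂) q).2
      have e2 : pullback.snd p₁ p₂ (π q) ∈ O₂ := by
        rw [← Scheme.Hom.comp_apply, pullback.lift_snd, Scheme.Hom.comp_apply]
        exact (pullback.snd (O₁.ι ≫ p₁) (O₂.ι ≫ p₂) q).2
      obtain ⟨w, hw⟩ := hbad _ hq e1 e2
      have hw1 : g₁ w ∈ O₁ := by
        rw [← hw, ← Scheme.Hom.comp_apply, pullback.lift_fst] at e1; exact e1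
      have hw2 : g₂ w ∈ O₂ := by
        rw [← hw, ← Scheme.Hom.comp_apply, pullback.lift_snd] at e2; exact e2
      refine ⟨⟨w, hW' w hw1 hw2⟩, π.isOpenEmbedding.injective ?_⟩
      rw [← hw, ← Scheme.Hom.comp_apply, hπ]
      rfl
  rw [this]
  exact isClosed_closure.preimage π.continuous

theorem exists_factor_sup [IsNoetherian X] [IsNoetherian S] (f : X ⟶ S) [IsSeparated f]
    (U₁ U₂ : X.Opens) (hU : U₁ ⊔ U₂ = ⊤) (Y₁ Y₂ : Scheme.{u}) [IsNoetherian Y₁] [IsNoetherian Y₂]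
    (k₁ : (U₁ : Scheme.{u}) ⟶ Y₁) (k₂ : (U₂ : Scheme.{u}) ⟶ Y₂) (p₁ : Y₁ ⟶ S) (p₂ : Y₂ ⟶ S)
    (hk₁ : LocImm.IsLocImmersion k₁) (hk₂ : LocImm.IsLocImmersion k₂)
    [IsSeparated p₁] [IsSeparated p₂] [LocallyOfFiniteType p₁] [LocallyOfFiniteType p₂]
    (h₁ : k₁ ≫ p₁ = U₁.ι ≫ f) (h₂ : k₂ ≫ p₂ = U₂.ι ≫ f) :
    ∃ (Y : Scheme.{u}) (k : X ⟶ Y) (p : Y ⟶ S), IsNoetherian Y ∧ LocImm.IsLocImmersion k ∧
      IsSeparated p ∧ LocallyOfFiniteType p ∧ QuasiCompact p ∧ k ≫ p = f := by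
  have := isNoetherian_opens U₁
  have := isNoetherian_opens U₂
  have := isNoetherian_opens (U₁ ⊓ U₂)
  let a₁ := X.homOfLE (inf_le_left : U₁ ⊓ U₂ ≤ U₁) ≫ k₁
  let a₂ := X.homOfLE (inf_le_right : U₁ ⊓ U₂ ≤ U₂) ≫ k₂
  have ha₁ : LocImm.IsLocImmersion a₁ := ⟨isLocalizing_comp_openImmersion_left _ hk₁.1,
    fun x y e => (X.homOfLE _).isOpenEmbedding.injective (hk₁.2 e)⟩
  have ha₂ : LocImm.IsLocImmersion a₂ := ⟨isLocalizing_comp_openImmersion_left _ hk₂.1,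
    fun x y e => (X.homOfLE _).isOpenEmbedding.injective (hk₂.2 e)⟩
  have e₁ : a₁ ≫ p₁ = (U₁ ⊓ U₂).ι ≫ f := by simp [a₁, h₁]
  have e₂ : a₂ ≫ p₂ = (U₁ ⊓ U₂).ι ≫ f := by simp [a₂, h₂]
  have : IsSeparated a₁ := by
    have : IsSeparated (a₁ ≫ p₁) := e₁ ▸ inferInstance
    exact IsSeparated.of_comp a₁ p₁
  have : IsSeparated a₂ := by
    have : IsSeparated (a₂ ≫ p₂) := e₂ ▸ inferInstance
    exact IsSeparated.of_comp a₂ p₂
  obtain ⟨W₀, kW₀, g₁₀, g₂₀, hkW₀, hg₁₀, hg₂₀, hg₀, hkg₁, hkg₂⟩ :=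
    Groth.Agent.S18193.result a₁ a₂ p₁ p₂ ha₁ ha₂ (e₁.trans e₂.symm)
  -- shrink so that the preimages are the overlap
  obtain ⟨P₁, hP₁⟩ : ∃ P : Y₁.Opens, ∀ u, k₁ u ∈ P ↔ U₁.ι u ∈ U₂ := by
    obtain ⟨V, hV, hVU⟩ := (isEmbedding hk₁).isInducing.isOpen_iff.1 (U₁.ι ⁻¹ᵁ U₂).2
    exact ⟨⟨V, hV⟩, fun u => Set.ext_iff.1 hVU u⟩
  obtain ⟨P₂, hP₂⟩ : ∃ P : Y₂.Opens, ∀ u, k₂ u ∈ P ↔ U₂.ι u ∈ U₁ := by
    obtain ⟨V, hV, hVU⟩ := (isEmbedding hk₂).isInducing.isOpen_iff.1 (U₂.ι ⁻¹ᵁ U₁).2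
    exact ⟨⟨V, hV⟩, fun u => Set.ext_iff.1 hVU u⟩
  let W₁ : W₀.Opens := g₁₀ ⁻¹ᵁ P₁ ⊓ g₂₀ ⁻¹ᵁ P₂
  let g₁ := W₁.ι ≫ g₁₀
  let g₂ := W₁.ι ≫ g₂₀
  have hWN : IsNoetherian W₁.toScheme := by
    have : IsNoetherian W₀ := by
      have := isNoetherian_opens g₁₀.opensRange
      exact isNoetherian_of_lft g₁₀.isoOpensRange.hom
    exact isNoetherian_opens W₁
  have hg : g₁ ≫ p₁ = g₂ ≫ p₂ := by simp [g₁, g₂, hg₀]
  have hkW₀r : Set.range kW₀ ⊆ Set.range W₁.ι := by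
    rw [Scheme.Opens.range_ι]
    rintro _ ⟨v, rfl⟩
    refine ⟨?_, ?_⟩
    · show g₁₀ (kW₀ v) ∈ P₁
      rw [← Scheme.Hom.comp_apply, hkg₁]
      refine (hP₁ _).2 ?_
      show (X.homOfLE (inf_le_left : U₁ ⊓ U₂ ≤ U₁) ≫ U₁.ι) v ∈ U₂
      rw [Scheme.homOfLE_ι]
      exact v.2.2
    · show g₂₀ (kW₀ v) ∈ P₂
      rw [← Scheme.Hom.comp_apply, hkg₂]
      refine (hP₂ _).2 ?_
      show (X.homOfLE (inf_le_right : U₁ ⊓ U₂ ≤ U₂) ≫ U₂.ι) v ∈ U₁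
      rw [Scheme.homOfLE_ι]
      exact v.2.1
  let kW := IsOpenImmersion.lift W₁.ι kW₀ hkW₀r
  have hw₁ : kW ≫ g₁ = a₁ := by
    rw [← Category.assoc, IsOpenImmersion.lift_fac, hkg₁]
  have hw₂ : kW ≫ g₂ = a₂ := by
    rw [← Category.assoc, IsOpenImmersion.lift_fac, hkg₂]
  have hpre₁ : ∀ u w, k₁ u = g₁ w → U₁.ι u ∈ U₂ := fun u w e =>
    (hP₁ u).1 (by rw [e]; exact w.2.1)
  let l := pullback.lift g₁ g₂ hg
  have : IsImmersion l := by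
    have : IsImmersion (l ≫ pullback.fst p₁ p₂) := by rw [pullback.lift_fst]; infer_instance
    exact IsImmersion.of_comp l (pullback.fst p₁ p₂)
  have : QuasiCompact p₂ := quasiCompact_of_isNoetherian p₂
  have : QuasiCompact p₁ := quasiCompact_of_isNoetherian p₁
  have : IsNoetherian (pullback p₁ p₂) := isNoetherian_of_lft (pullback.fst p₁ p₂ ≫ p₁)
  let bad : Set ↥(pullback p₁ p₂) := closure (Set.range l) \ Set.range l
  have hbadc : IsClosed bad := isClosed_closure_diff_range l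
  have K : ∀ z ∈ bad, pullback.fst p₁ p₂ z ∈ Set.range k₁ →
      pullback.snd p₁ p₂ z ∈ Set.range k₂ → False :=
    fun z hz h1 h2 => hz.2 (mem_range_of_mem_closure f k₁ k₂ p₁ p₂ hk₁ hk₂ h₁ h₂ g₁ g₂ hg kW
      hw₁ hw₂ hpre₁ z hz.1 h1 h2)
  let G₁ : Set ↥(pullback p₁ p₂) := pullback.fst p₁ p₂ ⁻¹' Set.range k₁
  have hG₁ : StableUnderGeneralization G₁ := fun a b h hb =>
    (generalizingMap_of_isLocalizing hk₁.1).stableUnderGeneralization_range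
      (h.map (pullback.fst p₁ p₂).continuous) hb
  let O₂ : Y₂.Opens := ⟨(closure (pullback.snd p₁ p₂ '' (bad ∩ G₁)))ᶜ, isClosed_closure.isOpen_compl⟩
  have hO₂ : ∀ u, k₂ u ∈ O₂ := fun u hu => by
    obtain ⟨c, hc, hcu⟩ := exists_specializes_of_mem_closure_image_inter _ hbadc hG₁ hu
    exact K c hc.1 hc.2
      ((generalizingMap_of_isLocalizing hk₂.1).stableUnderGeneralization_range hcu ⟨u, rfl⟩)
  let O₁ : Y₁.Opens := ⟨(closure (pullback.fst p₁ p₂ '' (bad ∩ (pullback.snd p₁ p₂ ⁻¹' (O₂ : Set Y₂)))))ᶜ,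
    isClosed_closure.isOpen_compl⟩
  have hO₁ : ∀ u, k₁ u ∈ O₁ := fun u hu => by
    obtain ⟨c, hc, hcu⟩ := exists_specializes_of_mem_closure_image_inter _ hbadc
      ((pullback.snd p₁ p₂ ⁻¹ᵁ O₂).2.stableUnderGeneralization) hu
    exact hc.2 (subset_closure ⟨c, ⟨hc.1, (generalizingMap_of_isLocalizing hk₁.1).stableUnderGeneralization_range
      hcu ⟨u, rfl⟩⟩, rfl⟩)
  let W' : W₁.toScheme.Opens := g₁ ⁻¹ᵁ O₁ ⊓ g₂ ⁻¹ᵁ O₂
  let i : W'.toScheme ⟶ O₁.toScheme := IsOpenImmersion.lift O₁.ι (W'.ι ≫ g₁) (by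
    rw [Scheme.Opens.range_ι]; rintro _ ⟨w, rfl⟩; exact w.2.1)
  let j : W'.toScheme ⟶ O₂.toScheme := IsOpenImmersion.lift O₂.ι (W'.ι ≫ g₂) (by
    rw [Scheme.Opens.range_ι]; rintro _ ⟨w, rfl⟩; exact w.2.2)
  have hi : i ≫ O₁.ι = W'.ι ≫ g₁ := IsOpenImmersion.lift_fac _ _ _
  have hj : j ≫ O₂.ι = W'.ι ≫ g₂ := IsOpenImmersion.lift_fac _ _ _
  have : IsOpenImmersion (i ≫ O₁.ι) := hi ▸ inferInstance
  have : IsOpenImmersion i := IsOpenImmersion.of_comp i O₁.ι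
  have : IsOpenImmersion (j ≫ O₂.ι) := hj ▸ inferInstance
  have : IsOpenImmersion j := IsOpenImmersion.of_comp j O₂.ι
  have hij : i ≫ O₁.ι ≫ p₁ = j ≫ O₂.ι ≫ p₂ := by
    rw [reassoc_of% hi, reassoc_of% hj, hg]
  have hcl : IsClosed (Set.range (pullback.lift i j hij)) :=
    isClosed_range_lift_restrict p₁ p₂ g₁ g₂ hg O₁ O₂ W' (fun w a b => ⟨a, b⟩) i j hi hj hij
      fun z hz e1 e2 => by
        by_contra hne
        exact e1 (subset_closure ⟨z, ⟨⟨hz, hne⟩, e2⟩, rfl⟩)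
  have := isNoetherian_opens O₁
  have := isNoetherian_opens O₂
  obtain ⟨Z, a, b, p, ha, hb, hab, hap, hbp, hZN, hsep, hft, hqc, -, hint⟩ :=
    exists_glue_separated i j (O₁.ι ≫ p₁) (O₂.ι ≫ p₂) hij hcl
  let k₁' := IsOpenImmersion.lift O₁.ι k₁ (by rw [Scheme.Opens.range_ι]; rintro _ ⟨u, rfl⟩; exact hO₁ u)
  let k₂' := IsOpenImmersion.lift O₂.ι k₂ (by rw [Scheme.Opens.range_ι]; rintro _ ⟨u, rfl⟩; exact hO₂ u)
  have hk₁' : k₁' ≫ O₁.ι = k₁ := IsOpenImmersion.lift_fac _ _ _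
  have hk₂' : k₂' ≫ O₂.ι = k₂ := IsOpenImmersion.lift_fac _ _ _
  have hov : X.homOfLE inf_le_left ≫ k₁' ≫ a = X.homOfLE (inf_le_right : U₁ ⊓ U₂ ≤ U₂) ≫ k₂' ≫ b := by
    let kW' := IsOpenImmersion.lift W'.ι kW (by
      rw [Scheme.Opens.range_ι]
      rintro _ ⟨v, rfl⟩
      refine ⟨?_, ?_⟩
      · show g₁ (kW v) ∈ O₁
        rw [← Scheme.Hom.comp_apply, hw₁]; exact hO₁ _
      · show g₂ (kW v) ∈ O₂
        rw [← Scheme.Hom.comp_apply, hw₂]; exact hO₂ _)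
    have hkW' : kW' ≫ W'.ι = kW := IsOpenImmersion.lift_fac _ _ _
    have e1 : X.homOfLE inf_le_left ≫ k₁' = kW' ≫ i := by
      rw [← cancel_mono O₁.ι, Category.assoc, Category.assoc, hk₁', hi, reassoc_of% hkW', hw₁]
    have e2 : X.homOfLE inf_le_right ≫ k₂' = kW' ≫ j := by
      rw [← cancel_mono O₂.ι, Category.assoc, Category.assoc, hk₂', hj, reassoc_of% hkW', hw₂]
    rw [reassoc_of% e1, hab, reassoc_of% e2]
  obtain ⟨r, hr₁, hr₂⟩ := H8Lim.exists_glue_hom U₁ U₂ (k₁' ≫ a) (k₂' ≫ b) hov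
  let k : X ⟶ Z := X.topIso.inv ≫ X.homOfLE hU.ge ≫ r
  have hkU : ∀ (U : X.Opens) (hle : U ≤ U₁ ⊔ U₂), U.ι ≫ k = X.homOfLE hle ≫ r := fun U hle => by
    have : U.ι ≫ X.topIso.inv ≫ X.homOfLE hU.ge = X.homOfLE hle := by
      rw [← cancel_mono (U₁ ⊔ U₂).ι]
      simp [Scheme.topIso_hom, Iso.inv_hom_id]
    rw [← this]; simp [k]
  have hkU₁ : U₁.ι ≫ k = k₁' ≫ a := (hkU U₁ le_sup_left).trans hr₁
  have hkU₂ : U₂.ι ≫ k = k₂' ≫ b := (hkU U₂ le_sup_right).trans hr₂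
  have hl₁ : LocImm.IsLocalizing k₁' := isLocalizing_of_comp_right O₁.ι (hk₁'.symm ▸ hk₁.1)
  have hl₂ : LocImm.IsLocalizing k₂' := isLocalizing_of_comp_right O₂.ι (hk₂'.symm ▸ hk₂.1)
  have hmem : ∀ x : X, x ∈ U₁ ∨ x ∈ U₂ := fun x => hU.ge (Set.mem_univ x)
  have hkl : LocImm.IsLocalizing k := isLocalizing_of_cover fun x => (hmem x).elim
    (fun h => ⟨U₁, h, hkU₁ ▸ isLocalizing_comp_right hl₁ a⟩)
    (fun h => ⟨U₂, h, hkU₂ ▸ isLocalizing_comp_right hl₂ b⟩)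
  have hinj₁ : ∀ u v : U₁.toScheme, k (U₁.ι u) = k (U₁.ι v) → u = v := fun u v e => by
    rw [← Scheme.Hom.comp_apply, ← Scheme.Hom.comp_apply, hkU₁] at e
    refine hk₁.2 ?_
    show k₁ u = k₁ v
    rw [← hk₁', Scheme.Hom.comp_apply, Scheme.Hom.comp_apply]
    exact congrArg O₁.ι (a.isOpenEmbedding.injective e)
  have hinj₂ : ∀ u v : U₂.toScheme, k (U₂.ι u) = k (U₂.ι v) → u = v := fun u v e => by
    rw [← Scheme.Hom.comp_apply, ← Scheme.Hom.comp_apply, hkU₂] at e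
    refine hk₂.2 ?_
    show k₂ u = k₂ v
    rw [← hk₂', Scheme.Hom.comp_apply, Scheme.Hom.comp_apply]
    exact congrArg O₂.ι (b.isOpenEmbedding.injective e)
  have hmix : ∀ (u : U₁.toScheme) (v : U₂.toScheme), k (U₁.ι u) = k (U₂.ι v) → U₁.ι u ∈ U₂ := by
    intro u v e
    rw [← Scheme.Hom.comp_apply, ← Scheme.Hom.comp_apply, hkU₁, hkU₂] at e
    obtain ⟨o, ho, -⟩ := hint (k₁' u) (k₂' v) e
    refine hpre₁ u (W'.ι o) ?_
    rw [← hk₁', Scheme.Hom.comp_apply, ← ho, ← Scheme.Hom.comp_apply, hi]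
    rfl
  refine ⟨Z, k, p, hZN, ⟨hkl, fun x y e => ?_⟩, hsep, hft, hqc, ?_⟩
  · change k x = k y at e
    rcases hmem x with hx | hx <;> rcases hmem y with hy | hy
    · exact congrArg U₁.ι (hinj₁ ⟨x, hx⟩ ⟨y, hy⟩ e)
    · exact congrArg U₂.ι (hinj₂ ⟨x, hmix ⟨x, hx⟩ ⟨y, hy⟩ e⟩ ⟨y, hy⟩ e)
    · exact congrArg U₂.ι (hinj₂ ⟨x, hx⟩ ⟨y, hmix ⟨y, hy⟩ ⟨x, hx⟩ e.symm⟩ e)
    · exact congrArg U₂.ι (hinj₂ ⟨x, hx⟩ ⟨y, hy⟩ e)
  · refine (Scheme.openCoverOfIsOpenCover X (fun s : Bool => bif s then U₁ else U₂) ?_).hom_ext _ _ ?_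
    · rw [IsOpenCover, eq_top_iff]
      intro x _
      rcases hmem x with h | h
      · exact Opens.mem_iSup.2 ⟨true, h⟩
      · exact Opens.mem_iSup.2 ⟨false, h⟩
    · rintro (_ | _)
      · show U₂.ι ≫ k ≫ p = U₂.ι ≫ f
        rw [reassoc_of% hkU₂, hbp, reassoc_of% hk₂', h₂]
      · show U₁.ι ≫ k ≫ p = U₁.ι ≫ f
        rw [reassoc_of% hkU₁, hap, reassoc_of% hk₁', h₁]

end Groth.Agent.LocImm12
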