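import Groth.Agent.LocImm12.Factor
import Groth.Agent.EGA43.FlatOpen
import Mathlib.AlgebraicGeometry.Morphisms.Flat

/-! Properties of essentially finite type morphisms which are read off at local rings. -/

universe u

set_option autoImplicit false
set_option backward.isDefEq.respectTransparency false

open CategoryTheory CategoryTheory.Limits AlgebraicGeometry TopologicalSpace Topology

namespace Groth.Agent.LocImm12

variable {X Y Z : Scheme.{u}}

theorem isLocalizing_of_id (X : Scheme.{u}) : LocImm.IsLocalizing (𝟙 X) := by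
  intro x
  obtain ⟨V, hV, hxV, -⟩ := exists_isAffineOpen_mem_and_subset (x := x) (U := ⊤) trivial
  refine ⟨⟨V, hV⟩, ⟨V, hV⟩, hxV, le_rfl, ?_⟩
  let _ := ((𝟙 X : X ⟶ X).appLE V V le_rfl).hom.toAlgebra
  have hid : Function.Bijective (algebraMap Γ(X, V) Γ(X, V)) := by
    show Function.Bijective ((𝟙 X : X ⟶ X).appLE V V le_rfl)
    have := isIso_appLE_preimage (𝟙 X) (U := V) (fun z _ => ⟨z, rfl⟩) (V := V) rfl le_rfl
    exact ConcreteCategory.bijective_of_isIso _
  exact ⟨⊥, IsLocalization.of_le_isUnit_of_bijective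
    (by rintro _ ⟨r, hr, rfl⟩; rw [Submonoid.mem_bot.1 hr, map_one]; exact isUnit_one) hid⟩

theorem isLocImmersion_fromSpecStalk (X : Scheme.{u}) (x : X) :
    LocImm.IsLocImmersion (X.fromSpecStalk x) := by
  obtain ⟨V, hV, hxV, -⟩ := exists_isAffineOpen_mem_and_subset (x := x) (U := ⊤) trivial
  rw [← hV.fromSpecStalk_eq_fromSpecStalk hxV, IsAffineOpen.fromSpecStalk]
  have h : LocImm.IsLocHom (X.presheaf.germ V x hxV).hom := by
    let _ := TopCat.Presheaf.algebra_section_stalk X.presheaf (⟨x, hxV⟩ : V)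
    refine ⟨(hV.primeIdealOf ⟨x, hxV⟩).asIdeal.primeCompl, ?_⟩
    exact hV.isLocalization_stalk ⟨x, hxV⟩
  exact ⟨isLocalizing_comp_right (isLocImmersion_specMap _ h).1 hV.fromSpec,
    fun a b e => (isLocImmersion_specMap _ h).2 (hV.fromSpec.isOpenEmbedding.injective e)⟩

instance : MorphismProperty.IsStableUnderComposition (@EssFT.LocallyEssFiniteType.{u}) :=
  HasRingHomProperty.stableUnderComposition (P := @EssFT.LocallyEssFiniteType)
    (RingHom.locally_stableUnderComposition RingHom.EssFiniteType.respectsIso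
      RingHom.EssFiniteType.isStableUnderBaseChange.localizationPreserves
      RingHom.EssFiniteType.stableUnderComposition)

theorem locallyEssFiniteType_comp (f : X ⟶ Y) (g : Y ⟶ Z) [hf : EssFT.LocallyEssFiniteType f]
    [hg : EssFT.LocallyEssFiniteType g] : EssFT.LocallyEssFiniteType (f ≫ g) :=
  MorphismProperty.comp_mem @EssFT.LocallyEssFiniteType f g hf hg

theorem locallyEssFiniteType_of_isOpenImmersion (f : X ⟶ Y) [IsOpenImmersion f] :
    EssFT.LocallyEssFiniteType f :=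
  HasRingHomProperty.of_isOpenImmersion (P := @EssFT.LocallyEssFiniteType) fun R _ =>
    RingHom.locally_of RingHom.EssFiniteType.respectsIso _
      (RingHom.essFiniteType_algebraMap.2 (inferInstanceAs (Algebra.EssFiniteType R R)))

theorem essFiniteType_fromSpecStalk_comp [IsNoetherian X] [IsNoetherian Y] (f : X ⟶ Y)
    [EssFT.LocallyEssFiniteType f] (x : X) : EssFT.EssFiniteType (X.fromSpecStalk x ≫ f) := by
  have : QuasiCompact (X.fromSpecStalk x ≫ f) := quasiCompact_of_isNoetherian _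
  have : EssFT.LocallyEssFiniteType (X.fromSpecStalk x) := by
    obtain ⟨V, hV, hxV, -⟩ := exists_isAffineOpen_mem_and_subset (x := x) (U := ⊤) trivial
    rw [← hV.fromSpecStalk_eq_fromSpecStalk hxV, IsAffineOpen.fromSpecStalk]
    have h1 : EssFT.LocallyEssFiniteType (Spec.map (X.presheaf.germ V x hxV)) := by
      rw [HasRingHomProperty.Spec_iff (P := @EssFT.LocallyEssFiniteType)]
      refine RingHom.locally_of RingHom.EssFiniteType.respectsIso _ ?_
      let _ := TopCat.Presheaf.algebra_section_stalk X.presheaf (⟨x, hxV⟩ : V)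
      have := hV.isLocalization_stalk ⟨x, hxV⟩
      exact RingHom.essFiniteType_algebraMap.2
        (Algebra.EssFiniteType.of_isLocalization _ (hV.primeIdealOf ⟨x, hxV⟩).asIdeal.primeCompl)
    have := locallyEssFiniteType_of_isOpenImmersion hV.fromSpec
    exact locallyEssFiniteType_comp _ _
  have : EssFT.LocallyEssFiniteType (X.fromSpecStalk x ≫ f) := locallyEssFiniteType_comp _ _
  exact { }

theorem isNoetherian_specStalk [IsLocallyNoetherian X] (x : X) :
    IsNoetherian (Spec (X.presheaf.stalk x)) := inferInstance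

/-- Hypotheses making a property readable at local rings. -/
theorem iff_of_isLocImmersion (P : MorphismProperty Scheme.{u})
    (hα : ∀ {W X Y : Scheme.{u}} [IsNoetherian W] [IsNoetherian X] [IsNoetherian Y] (i : W ⟶ X) (f : X ⟶ Y) [IsSeparated f] [EssFT.EssFiniteType f], LocImm.IsLocImmersion i → P f → P (i ≫ f))
    [IsNoetherian X] [IsNoetherian Y] [IsNoetherian Z] {k : X ⟶ Y} (hk : LocImm.IsLocImmersion k)
    (g : Y ⟶ Z) [IsSeparated g] [EssFT.LocallyEssFiniteType g] (x : X) :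
    P (X.fromSpecStalk x ≫ k ≫ g) ↔ P (Y.fromSpecStalk (k x) ≫ g) := by
  have := isIso_stalkMap hk.1 x
  have := essFiniteType_fromSpecStalk_comp g (k x)
  have e : X.fromSpecStalk x ≫ k ≫ g = Spec.map (k.stalkMap x) ≫ Y.fromSpecStalk (k x) ≫ g := by
    rw [Scheme.SpecMap_stalkMap_fromSpecStalk_assoc]
  have hiso : ∀ {A B : Scheme.{u}} (i : A ⟶ B) [IsOpenImmersion i], LocImm.IsLocImmersion i :=
    fun {A B} i _ => ⟨Category.comp_id i ▸ isLocalizing_comp_openImmersion_left i (isLocalizing_of_id B),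
      fun a b e => i.isOpenEmbedding.injective e⟩
  rw [e]
  refine ⟨fun h => ?_, fun h => hα _ _ (hiso _) h⟩
  have : EssFT.EssFiniteType (Spec.map (k.stalkMap x) ≫ Y.fromSpecStalk (k x) ≫ g) :=
    { toLocallyEssFiniteType :=
        have := locallyEssFiniteType_of_isOpenImmersion (Spec.map (k.stalkMap x))
        locallyEssFiniteType_comp _ _
      toQuasiCompact := quasiCompact_of_isNoetherian _ }
  have h2 := hα (inv (Spec.map (k.stalkMap x))) _ (hiso _) h
  rwa [IsIso.inv_hom_id_assoc] at h2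

theorem factor_property (P : MorphismProperty Scheme.{u})
    (hα : ∀ {W X Y : Scheme.{u}} [IsNoetherian W] [IsNoetherian X] [IsNoetherian Y] (i : W ⟶ X) (f : X ⟶ Y) [IsSeparated f] [EssFT.EssFiniteType f], LocImm.IsLocImmersion i → P f → P (i ≫ f))
    (hβ₁ : ∀ {X Y : Scheme.{u}} [IsNoetherian X] [IsNoetherian Y] (f : X ⟶ Y) [IsSeparated f] [LocallyOfFiniteType f], (∀ x : X, P (X.fromSpecStalk x ≫ f)) → P f)
    (hβ₂ : ∀ {X Y : Scheme.{u}} [IsNoetherian X] [IsNoetherian Y] (f : X ⟶ Y) [IsSeparated f] [LocallyOfFiniteType f], IsOpen {x : X | P (X.fromSpecStalk x ≫ f)})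
    [IsNoetherian X] [IsNoetherian Y] (f : X ⟶ Y) [IsSeparated f] [EssFT.EssFiniteType f] :
    ((∀ x : X, P (X.fromSpecStalk x ≫ f)) → P f) ∧ IsOpen {x : X | P (X.fromSpecStalk x ≫ f)} ∧
      (P f → ∃ (Z : Scheme.{u}) (i : X ⟶ Z) (h : Z ⟶ Y), IsNoetherian Z ∧ LocImm.IsLocImmersion i ∧
        IsSeparated h ∧ LocallyOfFiniteType h ∧ QuasiCompact h ∧ P h ∧ i ≫ h = f) := by
  obtain ⟨Z, k, p, hZ, hk, hs, hft, hqc, rfl⟩ := exists_factor f
  have := (essFiniteType_of_locallyOfFiniteType p).toLocallyEssFiniteType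
  have key : (∀ x : X, P (X.fromSpecStalk x ≫ k ≫ p)) → ∃ (Z' : Scheme.{u}) (i : X ⟶ Z') (h : Z' ⟶ Y),
      IsNoetherian Z' ∧ LocImm.IsLocImmersion i ∧
        IsSeparated h ∧ LocallyOfFiniteType h ∧ QuasiCompact h ∧ P h ∧ i ≫ h = k ≫ p := by
    intro hx
    let W : Z.Opens := ⟨_, hβ₂ p⟩
    have := isNoetherian_opens W
    have := quasiCompact_of_isNoetherian (W.ι ≫ p)
    let i := IsOpenImmersion.lift W.ι k (by
      rw [Scheme.Opens.range_ι]
      rintro _ ⟨x, rfl⟩
      exact (iff_of_isLocImmersion P hα hk p x).1 (hx x))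
    have hi : i ≫ W.ι = k := IsOpenImmersion.lift_fac _ _ _
    refine ⟨W.toScheme, i, W.ι ≫ p, inferInstance, ⟨isLocalizing_of_comp_right W.ι (hi.symm ▸ hk.1),
      fun a b e => hk.2 (by rw [← hi]; exact congrArg W.ι e)⟩, inferInstance, inferInstance,
      inferInstance, hβ₁ _ fun w => ?_, by rw [reassoc_of% hi]⟩
    exact (iff_of_isLocImmersion P hα ⟨Category.comp_id W.ι ▸
      isLocalizing_comp_openImmersion_left W.ι (isLocalizing_of_id Z),
      fun a b e => W.ι.isOpenEmbedding.injective e⟩ p w).2 w.2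
  refine ⟨fun hx => ?_, ?_, fun hf => key fun x => ?_⟩
  · obtain ⟨Z', i, h, hN, hi, hs', hft', hqc', hP, e⟩ := key hx
    have := essFiniteType_of_locallyOfFiniteType h
    exact e ▸ hα i h hi hP
  · have : {x : X | P (X.fromSpecStalk x ≫ k ≫ p)} = k ⁻¹' {z : Z | P (Z.fromSpecStalk z ≫ p)} :=
      Set.ext fun x => iff_of_isLocImmersion P hα hk p x
    rw [this]
    exact (hβ₂ p).preimage k.continuous
  · exact hα _ _ (isLocImmersion_fromSpecStalk X x) hf

theorem flat_fromSpecStalk_comp_iff (f : X ⟶ Y) (x : X) :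
    Flat (X.fromSpecStalk x ≫ f) ↔ (f.stalkMap x).hom.Flat := by
  rw [← Scheme.SpecMap_stalkMap_fromSpecStalk, ← Flat.SpecMap_iff]
  refine ⟨fun h => MorphismProperty.of_postcomp (W := @Flat) (W' := MorphismProperty.monomorphisms Scheme)
    _ (Y.fromSpecStalk (f x)) (MorphismProperty.monomorphisms.infer_property _) h, fun h => ?_⟩
  have := flat_of_isLocalizing (isLocImmersion_fromSpecStalk Y (f x)).1
  infer_instance

theorem isOpen_flat_fromSpecStalk [IsLocallyNoetherian Y] (f : X ⟶ Y) [LocallyOfFiniteType f] :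
    IsOpen {x : X | Flat (X.fromSpecStalk x ≫ f)} := by
  rw [isOpen_iff_forall_mem_open]
  intro x₀ hx₀
  obtain ⟨U, hU, hxU, -⟩ := exists_isAffineOpen_mem_and_subset (x := f x₀) (U := ⊤) trivial
  obtain ⟨V, hV, hxV, hVU⟩ := exists_isAffineOpen_mem_and_subset (x := x₀) (U := f ⁻¹ᵁ U) hxU
  have e : V ≤ f ⁻¹ᵁ U := hVU
  let _ := (f.appLE U V e).hom.toAlgebra
  have : Algebra.FiniteType Γ(Y, U) Γ(X, V) := f.finiteType_appLE hU hV e
  have : IsNoetherianRing Γ(Y, U) := IsLocallyNoetherian.component_noetherian ⟨U, hU⟩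
  have key : ∀ (x : X) (hx : x ∈ V), Flat (X.fromSpecStalk x ≫ f) ↔ Module.Flat Γ(Y, U)
      (LocalizedModule (hV.primeIdealOf ⟨x, hx⟩).asIdeal.primeCompl Γ(X, V)) := by
    intro x hx
    let _ := TopCat.Presheaf.algebra_section_stalk X.presheaf (⟨x, hx⟩ : V)
    let _ : Algebra Γ(Y, U) (X.presheaf.stalk x) :=
      ((algebraMap Γ(X, V) (X.presheaf.stalk x)).comp (algebraMap Γ(Y, U) Γ(X, V))).toAlgebra
    have : IsScalarTower Γ(Y, U) Γ(X, V) (X.presheaf.stalk x) := .of_algebraMap_eq fun _ => rfl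
    have hq : IsLocalization.AtPrime (X.presheaf.stalk x) (hV.primeIdealOf ⟨x, hx⟩).asIdeal :=
      hV.isLocalization_stalk ⟨x, hx⟩
    have h1 : X.fromSpecStalk x ≫ f =
        Spec.map (f.appLE U V e ≫ X.presheaf.germ V x hx) ≫ hU.fromSpec := by
      rw [Spec.map_comp, Category.assoc, hU.SpecMap_appLE_fromSpec f hV e,
        ← hV.fromSpecStalk_eq_fromSpecStalk hx]
      rfl
    have h2 : Flat (X.fromSpecStalk x ≫ f) ↔
        Flat (Spec.map (f.appLE U V e ≫ X.presheaf.germ V x hx)) := by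
      rw [h1]
      exact ⟨fun h => MorphismProperty.of_postcomp (W := @Flat)
        (W' := MorphismProperty.monomorphisms Scheme) _ hU.fromSpec
        (MorphismProperty.monomorphisms.infer_property _) h, fun h => inferInstance⟩
    rw [h2, Flat.SpecMap_iff]
    show Module.Flat Γ(Y, U) (X.presheaf.stalk x) ↔ _
    let E := (IsLocalizedModule.iso (hV.primeIdealOf ⟨x, hx⟩).asIdeal.primeCompl
      (Algebra.linearMap Γ(X, V) (X.presheaf.stalk x))).restrictScalars Γ(Y, U)
    exact ⟨fun h => Module.Flat.of_linearEquiv E, fun h => Module.Flat.of_linearEquiv E.symm⟩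
  refine ⟨Subtype.val '' {x : V | Flat (X.fromSpecStalk x.1 ≫ f)}, ?_, ?_, ⟨⟨x₀, hxV⟩, hx₀, rfl⟩⟩
  · rintro _ ⟨x, hx, rfl⟩; exact hx
  · refine V.2.isOpenMap_subtype_val _ ?_
    have : {x : V | Flat (X.fromSpecStalk x.1 ≫ f)} = (fun x : V => hV.primeIdealOf x) ⁻¹'
        {q | Module.Flat Γ(Y, U) (LocalizedModule q.asIdeal.primeCompl Γ(X, V))} :=
      Set.ext fun x => key x.1 x.2
    rw [this]
    refine (EGA43.FlatOpen.isOpen_flatLocus Γ(Y, U) Γ(X, V) Γ(X, V)).preimage ?_
    exact hV.isoSpec.hom.continuous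

end Groth.Agent.LocImm12
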